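import Mathlib

/-!
6 × 6 matrices over the field of four elements as two bit planes packed in a natural number.
-/

set_option autoImplicit false

namespace CfsgLib.G2FourJ2

/-- The lower plane. -/
def p0 (A : ℕ) : ℕ := A % 68719476736

/-- The upper plane. -/
def p1 (A : ℕ) : ℕ := A >>> 36

/-- Packing two planes. -/
def mk (a b : ℕ) : ℕ := a + 68719476736 * b

/-- Six slots of six bits. -/
def pack6 (x : ℕ → ℕ) : ℕ :=
  x 0 + 64 * (x 1 + 64 * (x 2 + 64 * (x 3 + 64 * (x 4 + 64 * x 5))))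

/-- Six bits. -/
def packBits (x : ℕ → Bool) : ℕ :=
  (x 0).toNat + 2 * ((x 1).toNat + 2 * ((x 2).toNat + 2 * ((x 3).toNat + 2 * ((x 4).toNat + 2 *
    (x 5).toNat))))

/-- The mask of the first bit of each slot. -/
def cmask : ℕ := 1090785345

/-- Column `k` of a plane, moved to the first column. -/
def colP (P k : ℕ) : ℕ := (P >>> k) &&& cmask

/-- Row `k` of a plane. -/
def rowP (P k : ℕ) : ℕ := (P >>> (6 * k)) % 64

/-- The contribution of the middle index `k` to the lower plane. -/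
def term0 (a0 a1 b0 b1 k : ℕ) : ℕ := (colP a0 k * rowP b0 k) ^^^ (colP a1 k * rowP b1 k)

/-- The contribution of the middle index `k` to the upper plane. -/
def term1 (a0 a1 b0 b1 k : ℕ) : ℕ :=
  (colP a0 k * rowP b1 k) ^^^ (colP a1 k * (rowP b0 k ^^^ rowP b1 k))

/-- The packed product. -/
def mulAux (a0 a1 b0 b1 : ℕ) : ℕ :=
  mk (term0 a0 a1 b0 b1 0 ^^^ term0 a0 a1 b0 b1 1 ^^^ term0 a0 a1 b0 b1 2 ^^^ term0 a0 a1 b0 b1 3 ^^^
      term0 a0 a1 b0 b1 4 ^^^ term0 a0 a1 b0 b1 5)
    (term1 a0 a1 b0 b1 0 ^^^ term1 a0 a1 b0 b1 1 ^^^ term1 a0 a1 b0 b1 2 ^^^ term1 a0 a1 b0 b1 3 ^^^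
      term1 a0 a1 b0 b1 4 ^^^ term1 a0 a1 b0 b1 5)

/-- The packed product of two codes. -/
def mulM (A B : ℕ) : ℕ := mulAux (p0 A) (p1 A) (p0 B) (p1 B)

/-- The transposed plane. -/
def trP (P : ℕ) : ℕ := pack6 fun i => packBits fun j => P.testBit (6 * j + i)

/-- The transposed plane, both indices shifted by three. -/
def adjP (P : ℕ) : ℕ := pack6 fun i => packBits fun j => P.testBit (6 * ((j + 3) % 6) + (i + 3) % 6)

/-- The packed adjoint for the alternating form. -/
def adjM (A : ℕ) : ℕ := mk (adjP (p0 A)) (adjP (p1 A))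

/-- The packed identity. -/
def oneM : ℕ := pack6 fun i => 2 ^ i

theorem two36 : (68719476736 : ℕ) = 2 ^ 36 := by norm_num

theorem p0_lt (A : ℕ) : p0 A < 2 ^ 36 := by rw [p0, two36]; exact Nat.mod_lt _ (Nat.two_pow_pos _)

theorem p0_testBit (A : ℕ) {i : ℕ} (hi : i < 36) : (p0 A).testBit i = A.testBit i := by
  rw [p0, two36, Nat.testBit_mod_two_pow]
  simp [hi]

theorem p1_testBit (A i : ℕ) : (p1 A).testBit i = A.testBit (36 + i) := by
  rw [p1, Nat.testBit_shiftRight]

theorem mk_testBit_low {a : ℕ} (ha : a < 2 ^ 36) (b : ℕ) {i : ℕ} (hi : i < 36) :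
    (mk a b).testBit i = a.testBit i := by
  rw [mk, two36, Nat.add_comm, Nat.testBit_two_pow_mul_add _ ha, if_pos hi]

theorem mk_testBit_high {a : ℕ} (ha : a < 2 ^ 36) (b i : ℕ) :
    (mk a b).testBit (36 + i) = b.testBit i := by
  rw [mk, two36, Nat.add_comm (a : ℕ), Nat.testBit_two_pow_mul_add _ ha, if_neg (by omega),
    Nat.add_sub_cancel_left]

theorem mk_lt {a b : ℕ} (ha : a < 2 ^ 36) (hb : b < 2 ^ 36) : mk a b < 2 ^ 72 := by
  rw [mk, two36]
  have : 2 ^ 36 * (b + 1) ≤ 2 ^ 36 * 2 ^ 36 := Nat.mul_le_mul_left _ hb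
  rw [← pow_add] at this
  rw [Nat.mul_add, Nat.mul_one] at this
  omega

theorem pack6_lt {x : ℕ → ℕ} (h : ∀ i < 6, x i < 64) : pack6 x < 2 ^ 36 := by
  have := h 0 (by omega); have := h 1 (by omega); have := h 2 (by omega); have := h 3 (by omega)
  have := h 4 (by omega); have := h 5 (by omega)
  simp only [pack6]
  omega

theorem pack6_testBit {x : ℕ → ℕ} (h : ∀ i < 6, x i < 64) {i j : ℕ} (hi : i < 6) (hj : j < 6) :
    (pack6 x).testBit (6 * i + j) = (x i).testBit j := by
  have key : ∀ s r m : ℕ, s < 64 →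
      (s + 64 * r).testBit m = if m < 6 then s.testBit m else r.testBit (m - 6) := by
    intro s r m hs
    rw [Nat.add_comm, show (64 : ℕ) = 2 ^ 6 by norm_num, Nat.testBit_two_pow_mul_add _ (by simpa using hs)]
  simp only [pack6]
  interval_cases i
  · rw [key _ _ _ (h 0 (by omega)), if_pos (by omega)]; simp
  all_goals
    rw [key _ _ _ (h 0 (by omega)), if_neg (by omega)]
    repeat' first
      | rw [key _ _ _ (h 1 (by omega))]
      | rw [key _ _ _ (h 2 (by omega))]
      | rw [key _ _ _ (h 3 (by omega))]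
      | rw [key _ _ _ (h 4 (by omega))]
      | rw [key _ _ _ (h 5 (by omega))]
      | rw [if_pos (by omega)]
      | rw [if_neg (by omega)]
    congr 1
    omega

theorem packBits_lt (x : ℕ → Bool) : packBits x < 64 := by
  simp only [packBits]
  have := Bool.toNat_le (x 0); have := Bool.toNat_le (x 1); have := Bool.toNat_le (x 2)
  have := Bool.toNat_le (x 3); have := Bool.toNat_le (x 4); have := Bool.toNat_le (x 5)
  have := Bool.toNat_le (x 6); have := Bool.toNat_le (x 7); have := Bool.toNat_le (x 8)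
  omega

theorem packBits_testBit (x : ℕ → Bool) {j : ℕ} (hj : j < 6) : (packBits x).testBit j = x j := by
  have key : ∀ (b : Bool) (r m : ℕ),
      (b.toNat + 2 * r).testBit m = if m < 1 then b else r.testBit (m - 1) := by
    intro b r m
    rw [Nat.add_comm, show (2 : ℕ) = 2 ^ 1 by norm_num,
      Nat.testBit_two_pow_mul_add _ (by cases b <;> simp)]
    split_ifs with hm
    · obtain rfl : m = 0 := by omega
      cases b <;> simp
    · rfl
  simp only [packBits]
  interval_cases j <;> simp [key] <;> (cases x 5 <;> simp)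

theorem cmask_testBit : ∀ m : Fin 36, cmask.testBit m.val = decide (m.val % 6 = 0) := by
  decide +kernel

theorem cmask_lt : cmask < 2 ^ 36 := by rw [cmask]; norm_num

theorem colP_eq (P k : ℕ) : colP P k = pack6 fun i => (P.testBit (6 * i + k)).toNat := by
  have hb : ∀ i < 6, (P.testBit (6 * i + k)).toNat < 64 := fun i _ => by
    cases P.testBit (6 * i + k) <;> simp
  refine Nat.eq_of_testBit_eq fun m => ?_
  rw [colP, Nat.testBit_and, Nat.testBit_shiftRight]
  by_cases hm : m < 36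
  · rw [cmask_testBit ⟨m, hm⟩]
    conv_rhs => rw [← Nat.div_add_mod m 6]
    rw [pack6_testBit hb (by omega) (Nat.mod_lt _ (by norm_num))]
    by_cases h0 : m % 6 = 0
    · have e : k + m = 6 * (m / 6) + k := by omega
      simp only [h0, decide_true, Bool.and_true, e]
      cases P.testBit (6 * (m / 6) + k) <;> simp
    · simp only [h0, decide_false, Bool.and_false]
      rw [Nat.testBit_lt_two_pow]
      exact lt_of_le_of_lt (Bool.toNat_le _) (Nat.one_lt_two_pow h0)
  · rw [Nat.testBit_lt_two_pow (lt_of_lt_of_le cmask_lt (Nat.pow_le_pow_right (by norm_num) (by omega))),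
      Bool.and_false,
      Nat.testBit_lt_two_pow (lt_of_lt_of_le (pack6_lt hb) (Nat.pow_le_pow_right (by norm_num) (by omega)))]

theorem rowP_lt (P k : ℕ) : rowP P k < 64 := Nat.mod_lt _ (by norm_num)

theorem rowP_testBit (P k : ℕ) {j : ℕ} (hj : j < 6) :
    (rowP P k).testBit j = P.testBit (6 * k + j) := by
  rw [rowP, show (64 : ℕ) = 2 ^ 6 by norm_num, Nat.testBit_mod_two_pow, Nat.testBit_shiftRight]
  simp [hj]

theorem outer_eq (P k r : ℕ) :
    colP P k * r = pack6 fun i => (P.testBit (6 * i + k)).toNat * r := by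
  rw [colP_eq]
  simp only [pack6]
  ring

theorem outer_lt (P k : ℕ) {r : ℕ} (hr : r < 64) : colP P k * r < 2 ^ 36 := by
  rw [outer_eq]
  refine pack6_lt fun i _ => ?_
  cases P.testBit (6 * i + k) <;> simp [hr]

theorem outer_testBit (P k : ℕ) {r i j : ℕ} (hr : r < 64) (hi : i < 6) (hj : j < 6) :
    (colP P k * r).testBit (6 * i + j) = (P.testBit (6 * i + k) && r.testBit j) := by
  rw [outer_eq, pack6_testBit (fun l _ => by cases P.testBit (6 * l + k) <;> simp [hr]) hi hj]
  cases P.testBit (6 * i + k) <;> simp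

theorem term0_lt (a0 a1 b0 b1 k : ℕ) : term0 a0 a1 b0 b1 k < 2 ^ 36 :=
  Nat.xor_lt_two_pow (outer_lt _ _ (rowP_lt _ _)) (outer_lt _ _ (rowP_lt _ _))

theorem xor_row_lt (b0 b1 k : ℕ) : rowP b0 k ^^^ rowP b1 k < 64 :=
  Nat.xor_lt_two_pow (n := 6) (rowP_lt _ _) (rowP_lt _ _)

theorem term1_lt (a0 a1 b0 b1 k : ℕ) : term1 a0 a1 b0 b1 k < 2 ^ 36 :=
  Nat.xor_lt_two_pow (outer_lt _ _ (rowP_lt _ _)) (outer_lt _ _ (xor_row_lt _ _ _))

theorem term0_testBit (a0 a1 b0 b1 k : ℕ) {i j : ℕ} (hi : i < 6) (hj : j < 6) :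
    (term0 a0 a1 b0 b1 k).testBit (6 * i + j) =
      xor (a0.testBit (6 * i + k) && b0.testBit (6 * k + j))
        (a1.testBit (6 * i + k) && b1.testBit (6 * k + j)) := by
  rw [term0, Nat.testBit_xor, outer_testBit _ _ (rowP_lt _ _) hi hj,
    outer_testBit _ _ (rowP_lt _ _) hi hj, rowP_testBit _ _ hj, rowP_testBit _ _ hj]

theorem term1_testBit (a0 a1 b0 b1 k : ℕ) {i j : ℕ} (hi : i < 6) (hj : j < 6) :
    (term1 a0 a1 b0 b1 k).testBit (6 * i + j) =
      xor (a0.testBit (6 * i + k) && b1.testBit (6 * k + j))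
        (a1.testBit (6 * i + k) && xor (b0.testBit (6 * k + j)) (b1.testBit (6 * k + j))) := by
  rw [term1, Nat.testBit_xor, outer_testBit _ _ (rowP_lt _ _) hi hj,
    outer_testBit _ _ (xor_row_lt _ _ _) hi hj, Nat.testBit_xor, rowP_testBit _ _ hj,
    rowP_testBit _ _ hj]

theorem mulM_lt (A B : ℕ) : mulM A B < 2 ^ 72 := by
  refine mk_lt ?_ ?_ <;>
    repeat' first
      | exact term0_lt _ _ _ _ _
      | exact term1_lt _ _ _ _ _
      | apply Nat.xor_lt_two_pow

theorem trP_lt (P : ℕ) : trP P < 2 ^ 36 := pack6_lt fun _ _ => packBits_lt _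

theorem trP_testBit (P : ℕ) {i j : ℕ} (hi : i < 6) (hj : j < 6) :
    (trP P).testBit (6 * i + j) = P.testBit (6 * j + i) := by
  rw [trP, pack6_testBit (fun _ _ => packBits_lt _) hi hj, packBits_testBit _ hj]

theorem adjP_lt (P : ℕ) : adjP P < 2 ^ 36 := pack6_lt fun _ _ => packBits_lt _

theorem adjP_testBit (P : ℕ) {i j : ℕ} (hi : i < 6) (hj : j < 6) :
    (adjP P).testBit (6 * i + j) = P.testBit (6 * ((j + 3) % 6) + (i + 3) % 6) := by
  rw [adjP, pack6_testBit (fun _ _ => packBits_lt _) hi hj, packBits_testBit _ hj]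

theorem adjM_lt (A : ℕ) : adjM A < 2 ^ 72 := mk_lt (adjP_lt _) (adjP_lt _)

theorem code_ext {A B : ℕ} (hA : A < 2 ^ 72) (hB : B < 2 ^ 72)
    (h0 : ∀ i < 6, ∀ j < 6, A.testBit (6 * i + j) = B.testBit (6 * i + j))
    (h1 : ∀ i < 6, ∀ j < 6, A.testBit (36 + (6 * i + j)) = B.testBit (36 + (6 * i + j))) : A = B := by
  refine Nat.eq_of_testBit_eq fun m => ?_
  by_cases hm : m < 36
  · rw [← Nat.div_add_mod m 6]
    exact h0 _ (by omega) _ (Nat.mod_lt _ (by norm_num))
  by_cases hm2 : m < 72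
  · obtain ⟨l, rfl⟩ : ∃ l, m = 36 + l := ⟨m - 36, by omega⟩
    rw [← Nat.div_add_mod l 6]
    exact h1 _ (by omega) _ (Nat.mod_lt _ (by norm_num))
  · rw [Nat.testBit_lt_two_pow (lt_of_lt_of_le hA (Nat.pow_le_pow_right (by norm_num) (by omega))),
      Nat.testBit_lt_two_pow (lt_of_lt_of_le hB (Nat.pow_le_pow_right (by norm_num) (by omega)))]

theorem oneM_testBit : ∀ i j : Fin 6, oneM.testBit (6 * i.val + j.val) = decide (i = j) ∧
    oneM.testBit (36 + (6 * i.val + j.val)) = false := by decide +kernel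

end CfsgLib.G2FourJ2
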