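import Cfsg.Agent.Lib.G2FourJ2.Defs

/-!
Kernel checks: the chain, the root elements, the representatives, the generators of the group.
-/

set_option autoImplicit false
set_option maxRecDepth 100000
set_option Elab.async false

namespace CfsgLib.G2FourJ2

open CfsgLib.Golay
open Data

theorem pairs_ok : Bsgs.check (ops K₀) [] pairLevels = true := by decide +kernel

theorem pairs_card : (pairLevels.map fun l => l.reps.length).prod = 604800 := by decide +kernel

theorem roots_ok : rootsCheck = true := by decide +kernel

theorem slp_ok : (bigGens.all okM && slpOk bigGens rootSlp && decide (rootPos.all (· < allCodes.length))) = true := by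
  decide +kernel

theorem reps_ok : (repsCheck && reachCheck cosetPar) = true := by decide +kernel

theorem perm_mem : ((Bsgs.allGens pairLevels).zip permMem).all (fun x =>
    (pPart x.1).beq (Bsgs.prodReps permOps Golay.J2.levels x.2)) = true ∧
    (Bsgs.allGens pairLevels).length = permMem.length := by decide +kernel

theorem gen_pos : (genPos.map fun g => prodC (handles.getD g [])) = Bsgs.allGens pairLevels ∧
    genPos.all (fun g => decide (g < handles.length)) = true ∧ handles.length = 15 ∧
    subTab.length = 15 := by decide +kernel

theorem bigTab_lengths : bigTab.length = 8 ∧ bigGens.length = 8 := by decide +kernel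

theorem bigTab_ok0 : tabCheck (bigGens.getD 0 oneM) (bigTo.getD 0 0) (bigTab.getD 0 []) = true := by
  decide +kernel

theorem bigTab_ok1 : tabCheck (bigGens.getD 1 oneM) (bigTo.getD 1 0) (bigTab.getD 1 []) = true := by
  decide +kernel

theorem bigTab_ok2 : tabCheck (bigGens.getD 2 oneM) (bigTo.getD 2 0) (bigTab.getD 2 []) = true := by
  decide +kernel

theorem bigTab_ok3 : tabCheck (bigGens.getD 3 oneM) (bigTo.getD 3 0) (bigTab.getD 3 []) = true := by
  decide +kernel

theorem bigTab_ok4 : tabCheck (bigGens.getD 4 oneM) (bigTo.getD 4 0) (bigTab.getD 4 []) = true := by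
  decide +kernel

theorem bigTab_ok5 : tabCheck (bigGens.getD 5 oneM) (bigTo.getD 5 0) (bigTab.getD 5 []) = true := by
  decide +kernel

theorem bigTab_ok6 : tabCheck (bigGens.getD 6 oneM) (bigTo.getD 6 0) (bigTab.getD 6 []) = true := by
  decide +kernel

theorem bigTab_ok7 : tabCheck (bigGens.getD 7 oneM) (bigTo.getD 7 0) (bigTab.getD 7 []) = true := by
  decide +kernel

end CfsgLib.G2FourJ2
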