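import Cfsg.Agent.Lib.G2FourJ2.Defs

/-!
Kernel checks: the action of the subgroup, its orbits and the congruences.
-/

set_option autoImplicit false
set_option maxRecDepth 100000
set_option Elab.async false

namespace CfsgLib.G2FourJ2

open Data

theorem subTab_ok0 : tabCheck (subGen 0) (subTo.getD 0 0) (subTab.getD 0 []) = true := by
  decide +kernel

theorem subTab_ok1 : tabCheck (subGen 1) (subTo.getD 1 0) (subTab.getD 1 []) = true := by
  decide +kernel

theorem subTab_ok2 : tabCheck (subGen 2) (subTo.getD 2 0) (subTab.getD 2 []) = true := by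
  decide +kernel

theorem subTab_ok3 : tabCheck (subGen 3) (subTo.getD 3 0) (subTab.getD 3 []) = true := by
  decide +kernel

theorem subTab_ok4 : tabCheck (subGen 4) (subTo.getD 4 0) (subTab.getD 4 []) = true := by
  decide +kernel

theorem subTab_ok5 : tabCheck (subGen 5) (subTo.getD 5 0) (subTab.getD 5 []) = true := by
  decide +kernel

theorem subTab_ok6 : tabCheck (subGen 6) (subTo.getD 6 0) (subTab.getD 6 []) = true := by
  decide +kernel

theorem subTab_ok7 : tabCheck (subGen 7) (subTo.getD 7 0) (subTab.getD 7 []) = true := by
  decide +kernel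

theorem subTab_ok8 : tabCheck (subGen 8) (subTo.getD 8 0) (subTab.getD 8 []) = true := by
  decide +kernel

theorem subTab_ok9 : tabCheck (subGen 9) (subTo.getD 9 0) (subTab.getD 9 []) = true := by
  decide +kernel

theorem subTab_ok10 : tabCheck (subGen 10) (subTo.getD 10 0) (subTab.getD 10 []) = true := by
  decide +kernel

theorem subTab_ok11 : tabCheck (subGen 11) (subTo.getD 11 0) (subTab.getD 11 []) = true := by
  decide +kernel

theorem subTab_ok12 : tabCheck (subGen 12) (subTo.getD 12 0) (subTab.getD 12 []) = true := by
  decide +kernel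

theorem subTab_ok13 : tabCheck (subGen 13) (subTo.getD 13 0) (subTab.getD 13 []) = true := by
  decide +kernel

theorem subTab_ok14 : tabCheck (subGen 14) (subTo.getD 14 0) (subTab.getD 14 []) = true := by
  decide +kernel

end CfsgLib.G2FourJ2
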