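import Cfsg.Agent.Lib.G2FourJ2.Defs

/-!
Kernel checks: the orbits of the subgroup and the congruences.
-/

set_option autoImplicit false
set_option maxRecDepth 100000
set_option Elab.async false

namespace CfsgLib.G2FourJ2

open Data

theorem orbitLong_ok : (orbitCheck orbitLong orbitParLong && decide (orbitLong.length = 315)) = true := by
  decide +kernel

theorem orbitShort_ok : (orbitCheck orbitShort orbitParShort && decide (orbitShort.length = 100)) = true := by
  decide +kernel

theorem orbit_cover : (let m := CfsgLib.Golay.PackPerm.hits (0 :: orbitShort ++ orbitLong)
    (List.range 416).all (fun i => m.testBit i)) = true := by decide +kernel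

theorem orbit_nodup : noRepeat 0 (0 :: orbitShort ++ orbitLong) = true := by decide +kernel

theorem desc_ok : (descCheck orbitLong descentLong (congsLong.map (·.1)) &&
    descCheck orbitShort descentShort (congsShort.map (·.1))) = true := by decide +kernel

theorem congLong_ok0 : congCheck orbitLong (congsLong.getD 0 (0, [], [], [])) = true := by
  decide +kernel

theorem congLong_ok1 : congCheck orbitLong (congsLong.getD 1 (0, [], [], [])) = true := by
  decide +kernel

theorem congLong_ok2 : congCheck orbitLong (congsLong.getD 2 (0, [], [], [])) = true := by
  decide +kernel

theorem congLong_ok3 : congCheck orbitLong (congsLong.getD 3 (0, [], [], [])) = true := by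
  decide +kernel

theorem congLong_ok4 : congCheck orbitLong (congsLong.getD 4 (0, [], [], [])) = true := by
  decide +kernel

theorem congsLong_length : congsLong.length = 5 := by decide +kernel

theorem congLong_ok : congsLong.all (congCheck orbitLong) = true := by
  rw [List.all_eq_true]
  intro c hc
  obtain ⟨k, hk, rfl⟩ := List.getElem_of_mem hc
  have h5 := congsLong_length ▸ hk
  rw [← List.getD_eq_getElem _ (0, [], [], []) hk]
  interval_cases k
  · exact congLong_ok0
  · exact congLong_ok1
  · exact congLong_ok2
  · exact congLong_ok3
  · exact congLong_ok4

theorem congShort_ok : congsShort.all (congCheck orbitShort) = true := by decide +kernel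



end CfsgLib.G2FourJ2
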