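import Mathlib

/-!
A stabiliser is maximal when every pair through the base point generates the universal congruence,
proved by listed derivations.
-/

set_option autoImplicit false

namespace CfsgLib.G2FourJ2

variable {A X : Type*} [Group A] [MulAction A X] (M : Subgroup A) (x₀ : X)

/-- Two points reached from the base point by elements of one coset of `M`. -/
def Linked (u v : X) : Prop :=
  (∃ h : A, h • x₀ = u) ∧ (∃ h : A, h • x₀ = v) ∧
    ∀ h h' : A, h • x₀ = u → h' • x₀ = v → h⁻¹ * h' ∈ M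

variable {M x₀}

theorem linked_first (hS : MulAction.stabilizer A x₀ ≤ M) {m : A} (hm : m ∈ M) :
    Linked M x₀ x₀ (m • x₀) := by
  refine ⟨⟨1, one_smul _ _⟩, ⟨m, rfl⟩, fun h h' hh hh' => ?_⟩
  have h1 : h ∈ M := hS (MulAction.mem_stabilizer_iff.2 hh)
  have h2 : m⁻¹ * h' ∈ M := hS (MulAction.mem_stabilizer_iff.2 (by rw [mul_smul, hh', inv_smul_smul]))
  have : h' ∈ M := by simpa using M.mul_mem hm h2
  exact M.mul_mem (M.inv_mem h1) this

theorem linked_smul (g : A) {u v : X} (h : Linked M x₀ u v) : Linked M x₀ (g • u) (g • v) := by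
  obtain ⟨⟨a, ha⟩, ⟨b, hb⟩, hall⟩ := h
  refine ⟨⟨g * a, by rw [mul_smul, ha]⟩, ⟨g * b, by rw [mul_smul, hb]⟩, fun h h' hh hh' => ?_⟩
  have := hall (g⁻¹ * h) (g⁻¹ * h') (by rw [mul_smul, hh, inv_smul_smul])
    (by rw [mul_smul, hh', inv_smul_smul])
  simpa [mul_assoc] using this

theorem linked_symm {u v : X} (h : Linked M x₀ u v) : Linked M x₀ v u :=
  ⟨h.2.1, h.1, fun a b ha hb => by simpa using M.inv_mem (h.2.2 b a hb ha)⟩

/-- Every element moving the base point onto `u` lies in `M`. -/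
def Inside (M : Subgroup A) (x₀ u : X) : Prop := ∀ h : A, h • x₀ = u → h ∈ M

theorem inside_first (hS : MulAction.stabilizer A x₀ ≤ M) : Inside M x₀ x₀ :=
  fun _ hh => hS (MulAction.mem_stabilizer_iff.2 hh)

theorem inside_step {u v : X} (h : Linked M x₀ u v) (hu : Inside M x₀ u) : Inside M x₀ v := by
  intro b hb
  obtain ⟨a, ha⟩ := h.1
  simpa using M.mul_mem (hu a ha) (h.2.2 a b ha hb)

end CfsgLib.G2FourJ2
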