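import Cfsg.Agent.Lib.G2FourJ2.Emb
import Cfsg.Agent.Lib.G2FourJ2.ChecksB
import Cfsg.Agent.Lib.G2FourJ2.ChecksC
import Cfsg.Agent.Lib.G2FourJ2.Congruence

/-!
The action of the Chevalley group on the 416 cosets of the Hall–Janko group, in tables.
-/

set_option autoImplicit false

namespace CfsgLib.G2FourJ2

open Cfsg.Lie
open CfsgLib.Golay
open Data
open CfsgLib.Spectrum.G2 (Ix root)
open scoped MatrixGroups

attribute [local irreducible] mulM mkC pPart mPart okM oneM toMat val rootCode cosetRep prodM prodC pairLevels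
  Data.handles Data.subTab Data.bigTab Data.repsPacked Data.subTo Data.bigTo Data.orbitLong Data.orbitShort

variable {F : Type*} [Field F] [Fintype F] (K : J3.Fld F)

/-- The embedding with the properties that are used. -/
structure Setup where
  /-- The embedding. -/
  φ : ↥(chevG2.group F) →* GL Ix F
  inj : Function.Injective φ
  range : φ.range = bigGrp K

variable {K} (D : Setup K)

/-- The Hall–Janko subgroup. -/
noncomputable def Setup.H : Subgroup ↥(chevG2.group F) := (matGrp K).comap D.φ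

theorem reps_facts : (∀ i, okM (cosetRep i) = true) ∧ cosetRep 0 = oneM ∧
    cosetPar.length + 1 = 416 ∧ ∀ k < cosetPar.length, (cosetPar.getD k (0, 0)).1 < 8 ∧
      (cosetPar.getD k (0, 0)).2 ≤ k ∧ cosetRep (k + 1) =
        mulM (bigGens.getD (cosetPar.getD k (0, 0)).1 oneM) (cosetRep (cosetPar.getD k (0, 0)).2) := by
  have h := reps_ok
  simp only [repsCheck, reachCheck, Bool.and_eq_true, decide_eq_true_eq, List.all_eq_true,
    List.mem_range, Nat.beq_eq] at h
  obtain ⟨⟨h2, h3⟩, h4, h5⟩ := h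
  refine ⟨fun i => ?_, h3, h4, fun k hk => ⟨(h5 k hk).1.1, (h5 k hk).1.2, (h5 k hk).2⟩⟩
  by_cases hi : i < 416
  · exact h2 i hi
  · unfold cosetRep
    rw [if_neg (by simpa using hi)]
    exact ok_oneM

theorem cosetRep_okM (i : ℕ) : okM (cosetRep i) = true := reps_facts.1 i

theorem bigGen_mem {g : ℕ} (hg : g < 8) :
    okM (bigGens.getD g oneM) = true ∧ val K (bigGens.getD g oneM) ∈ bigGrp K := by
  have hl : g < bigGens.length := by rw [bigTab_lengths.2]; exact hg
  rw [List.getD_eq_getElem _ _ hl]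
  exact ⟨bigGens_ok (List.getElem_mem _), Subgroup.subset_closure ⟨_, List.getElem_mem _, rfl⟩⟩

theorem rep_mem_range : ∀ i, i < 416 → val K (cosetRep i) ∈ D.φ.range := by
  rw [D.range]
  obtain ⟨-, h0, hl, hp⟩ := reps_facts
  intro i
  induction i using Nat.strong_induction_on with
  | h i ih =>
    intro hi
    rcases i with _ | k
    · rw [h0, val_oneM]; exact Subgroup.one_mem _
    · obtain ⟨h1, h2, h3⟩ := hp k (by omega)
      obtain ⟨hok, hm⟩ := bigGen_mem (K := K) h1
      rw [h3, val_mulM K hok (cosetRep_okM _)]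
      exact Subgroup.mul_mem _ hm (ih _ (by omega) (by omega))

/-- The element of a representative. -/
noncomputable def Setup.R (i : ℕ) : ↥(chevG2.group F) :=
  if h : i < 416 then (rep_mem_range D i h).choose else 1

theorem map_R {i : ℕ} (hi : i < 416) : D.φ (D.R i) = val K (cosetRep i) := by
  rw [Setup.R, dif_pos hi]
  exact (rep_mem_range D i hi).choose_spec

/-- The coset with a given number. -/
noncomputable def Setup.pt (i : ℕ) : ↥(chevG2.group F) ⧸ D.H := QuotientGroup.mk (D.R i)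

theorem rows_entry {g P : ℕ} : ∀ {T : List (List ℕ)} {i₀ : ℕ}, rowsCheck g P i₀ T = true →
    ∀ i, i < T.length → entCheck g P (i₀ + i) (T.getD i []) = true
  | [], _, _, i, hi => absurd hi (by simp)
  | e :: es, i₀, h, i, hi => by
    simp only [rowsCheck, Bool.and_eq_true] at h
    rcases i with _ | i
    · exact h.1
    · rw [List.getD_cons_succ, show i₀ + (i + 1) = i₀ + 1 + i by omega]
      exact rows_entry h.2 i (by simpa using hi)

theorem target_lt {g P : ℕ} {T : List (List ℕ)} (hT : tabCheck g P T = true) {i : ℕ} (hi : i < 416) :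
    target P i < 416 ∧ ∃ is, mulM g (cosetRep i) = mulM (cosetRep (target P i)) (prodM is) := by
  simp only [tabCheck, Bool.and_eq_true, Nat.beq_eq] at hT
  have h := rows_entry hT.2 i (by omega)
  simp only [Nat.zero_add, entCheck, Bool.and_eq_true, Nat.blt_eq, Nat.beq_eq] at h
  exact ⟨h.1, _, h.2⟩

theorem tab_entry {g P : ℕ} {T : List (List ℕ)} (hg : okM g = true) (hT : tabCheck g P T = true) {i : ℕ}
    (hi : i < 416) : target P i < 416 ∧
      ∃ m ∈ matGrp K, val K g * val K (cosetRep i) = val K (cosetRep (target P i)) * m := by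
  obtain ⟨hj, is, he⟩ := target_lt hT hi
  exact ⟨hj, val K (prodM is), (prodC_mem K is).2.2,
    by rw [← val_mulM K hg (cosetRep_okM i), he, val_mulM K (cosetRep_okM _) (prodC_mem K is).2.1]⟩

theorem smul_pt {g P : ℕ} {T : List (List ℕ)} (hg : okM g = true) (hT : tabCheck g P T = true)
    {x : ↥(chevG2.group F)} (hx : D.φ x = val K g) {i : ℕ} (hi : i < 416) :
    x • D.pt i = D.pt (target P i) := by
  obtain ⟨hj, m, hm, he⟩ := tab_entry hg hT hi (K := K)
  show (QuotientGroup.mk (x * D.R i) : ↥(chevG2.group F) ⧸ D.H) = QuotientGroup.mk (D.R (target P i))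
  rw [eq_comm, QuotientGroup.eq]
  show D.φ ((D.R (target P i))⁻¹ * (x * D.R i)) ∈ matGrp K
  rw [map_mul, map_inv, map_mul, hx, map_R D hi, map_R D hj, he, inv_mul_cancel_left]
  exact hm

theorem cover (x : ↥(chevG2.group F)) : ∃ i < 416, D.φ x ∈ (fun m => val K (cosetRep i) * m) '' (matGrp K : Set (GL Ix F)) := by
  have hsub : (bigGrp K : Set (GL Ix F)) ⊆
      {g | ∃ i < 416, g ∈ (fun m => val K (cosetRep i) * m) '' (matGrp K : Set (GL Ix F))} := by
    refine Bsgs.closure_le_of_left_mul ⟨0, by norm_num, 1, Subgroup.one_mem _, ?_⟩ ?_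
    · show val K (cosetRep 0) * 1 = 1
      rw [reps_facts.2.1, val_oneM, one_mul]
    rintro _ ⟨c, hc, rfl⟩ _ ⟨i, hi, m, hm, rfl⟩
    obtain ⟨g, hg, rfl⟩ := List.getElem_of_mem hc
    have hg8 : g < 8 := bigTab_lengths.2 ▸ hg
    have hT : tabCheck (bigGens.getD g oneM) (bigTo.getD g 0) (bigTab.getD g []) = true := by
      interval_cases g
      · exact bigTab_ok0
      · exact bigTab_ok1
      · exact bigTab_ok2
      · exact bigTab_ok3
      · exact bigTab_ok4
      · exact bigTab_ok5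
      · exact bigTab_ok6
      · exact bigTab_ok7
    rw [List.getD_eq_getElem _ _ hg] at hT
    obtain ⟨hj, n, hn, he⟩ := tab_entry (bigGens_ok hc) hT hi (K := K)
    exact ⟨_, hj, n * m, Subgroup.mul_mem _ hn hm, by simp only [← mul_assoc, he]⟩
  exact hsub (D.range ▸ ⟨x, rfl⟩)

theorem exists_pt (q : ↥(chevG2.group F) ⧸ D.H) : ∃ i < 416, q = D.pt i := by
  obtain ⟨x, rfl⟩ := QuotientGroup.mk_surjective q
  obtain ⟨i, hi, m, hm, he⟩ := cover D x
  refine ⟨i, hi, ?_⟩
  rw [Setup.pt, eq_comm, QuotientGroup.eq]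
  show D.φ ((D.R i)⁻¹ * x) ∈ matGrp K
  rw [map_mul, map_inv, map_R D hi, ← he, inv_mul_cancel_left]
  exact hm

theorem counting (hF : Fintype.card F = 4) : D.H.index = 416 ∧ D.H.map D.φ = matGrp K ∧
    ∀ i < 416, ∀ j < 416, D.pt i = D.pt j → i = j := by
  classical
  have hG := card_group (F := F) hF
  have hle : D.H.map D.φ ≤ matGrp K := Subgroup.map_comap_le _ _
  have hH : Nat.card D.H ≤ 604800 := by
    rw [← Subgroup.card_map_of_injective (K := D.H) D.inj, ← card_matGrp K]
    exact Subgroup.card_le_of_le hle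
  let f : Fin 416 → ↥(chevG2.group F) ⧸ D.H := fun i => D.pt i.val
  have hf : Function.Surjective f := fun q => by
    obtain ⟨i, hi, rfl⟩ := exists_pt D q
    exact ⟨⟨i, hi⟩, rfl⟩
  have hidx : D.H.index ≤ 416 := by
    have := Nat.card_le_card_of_surjective f hf
    rwa [Nat.card_fin] at this
  have hmul := D.H.card_mul_index
  rw [hG] at hmul
  have h1 : Nat.card D.H = 604800 := by nlinarith
  have h2 : D.H.index = 416 := by rw [h1] at hmul; omega
  refine ⟨h2, Subgroup.eq_of_le_of_card_ge hle ?_, fun i hi j hj h => ?_⟩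
  · rw [Subgroup.card_map_of_injective D.inj, h1, card_matGrp]
  · have hb : Function.Bijective f :=
      ((Nat.bijective_iff_surjective_and_card f).2 ⟨hf, by rw [Nat.card_fin]; exact h2.symm⟩)
    exact congrArg Fin.val (hb.1 (a₁ := ⟨i, hi⟩) (a₂ := ⟨j, hj⟩) h)

theorem nonempty_j2 (hF : Fintype.card F = 4) : Cfsg.Spor.IsoJ2 D.H := by
  obtain ⟨e⟩ := exists_matEquiv K
  exact ⟨((D.H.equivMapOfInjective D.φ D.inj).trans (MulEquiv.subgroupCongr (counting D hF).2.1)).trans e⟩

theorem subTab_ok {k : ℕ} (hk : k < 15) :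
    tabCheck (subGen k) (subTo.getD k 0) (subTab.getD k []) = true := by
  interval_cases k
  · exact subTab_ok0
  · exact subTab_ok1
  · exact subTab_ok2
  · exact subTab_ok3
  · exact subTab_ok4
  · exact subTab_ok5
  · exact subTab_ok6
  · exact subTab_ok7
  · exact subTab_ok8
  · exact subTab_ok9
  · exact subTab_ok10
  · exact subTab_ok11
  · exact subTab_ok12
  · exact subTab_ok13
  · exact subTab_ok14

theorem subGen_mem (k : ℕ) : okM (subGen k) = true ∧ val K (subGen k) ∈ matGrp K :=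
  ⟨(prodC_mem K _).2.1, (prodC_mem K _).2.2⟩

/-- An acting element of the subgroup. -/
theorem exists_sub (hF : Fintype.card F = 4) (k : ℕ) :
    ∃ h : D.H, D.φ h = val K (subGen k) := by
  have := (subGen_mem (K := K) k).2
  rw [← (counting D hF).2.1] at this
  obtain ⟨x, hx, he⟩ := this
  exact ⟨⟨x, hx⟩, he⟩

theorem sub_smul {k : ℕ} (hk : k < 15) {h : D.H} (hh : D.φ h = val K (subGen k)) {i : ℕ} (hi : i < 416) :
    h • D.pt i = D.pt (subMove k i) :=
  smul_pt D (subGen_mem (K := K) k).1 (subTab_ok hk) hh hi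

theorem subMove_lt {k i : ℕ} (hk : k < 15) (hi : i < 416) : subMove k i < 416 :=
  (target_lt (subTab_ok hk) hi).1

theorem zero_pt : D.pt 0 = ((1 : ↥(chevG2.group F)) : ↥(chevG2.group F) ⧸ D.H) := by
  have : D.R 0 = 1 := D.inj (by rw [map_R D (by norm_num), reps_facts.2.1, val_oneM, map_one])
  rw [Setup.pt, this]

theorem orbit_invariant (hF : Fintype.card F = 4) {o : List ℕ} (hlt : ∀ i ∈ o, i < 416)
    (hcl : ∀ g ∈ genPos, ∀ i ∈ o, subMove g i ∈ o) (h : D.H) {i : ℕ} (hi : i ∈ o) :
    ∃ j ∈ o, h • D.pt i = D.pt j := by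
  suffices H : ∀ x ∈ D.H, ∀ i ∈ o, ∃ j ∈ o, x • D.pt i = D.pt j from H h h.2 i hi
  intro x hx
  have hx' : D.φ x ∈ matGrp K := hx
  let S : Set ↥(chevG2.group F) := {y | ∀ i ∈ o, ∃ j ∈ o, y • D.pt i = D.pt j}
  have hsub : (matGrp K : Set (GL Ix F)) ⊆ {g | ∀ y, D.φ y = g → y ∈ S} := by
    rw [show matGrp K = Subgroup.closure
      ((MonoidHom.snd (Equiv.Perm (Fin 100)) (GL Ix F)) ''
        {p | ∃ r ∈ Bsgs.allGens pairLevels, (ops K).val r = p}) from MonoidHom.map_closure _ _]
    refine Bsgs.closure_le_of_left_mul ?_ ?_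
    · intro y hy i hi
      exact ⟨i, hi, by rw [D.inj (hy.trans (map_one D.φ).symm), one_smul]⟩
    rintro _ ⟨_, ⟨c, hc, rfl⟩, rfl⟩ g hg y hy i hi
    obtain ⟨hmap, hlt', hlen, -⟩ := gen_pos
    rw [← hmap, List.mem_map] at hc
    obtain ⟨k, hk, rfl⟩ := hc
    have hk15 : k < 15 := hlen ▸ of_decide_eq_true (List.all_eq_true.1 hlt' k hk)
    obtain ⟨s, hs⟩ := exists_sub D hF k
    have e : val K (subGen k) = val K (mPart (prodC (handles.getD k []))) := by
      unfold subGen; rw [prodM_eq]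
    have hz : D.φ ((s : ↥(chevG2.group F))⁻¹ * y) = g := by
      rw [map_mul, map_inv, hs, hy, e]
      exact inv_mul_cancel_left _ _
    obtain ⟨j, hj, hj'⟩ := hg _ hz i hi
    refine ⟨subMove k j, hcl k hk j hj, ?_⟩
    rw [← sub_smul D hk15 hs (hlt j hj), ← hj']
    show y • D.pt i = (s : ↥(chevG2.group F)) • ((s : ↥(chevG2.group F))⁻¹ * y) • D.pt i
    rw [mul_smul, smul_inv_smul]
  exact hsub hx' x rfl

theorem orbit_facts {o : List ℕ} {par : List (ℕ × ℕ)} (h : orbitCheck o par = true) :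
    par.length + 1 = o.length ∧ (∀ i ∈ o, i < 416) ∧
      (∀ k < par.length, (par.getD k (0, 0)).1 < 2 ∧ (par.getD k (0, 0)).2 ≤ k ∧
        o.getD (k + 1) 0 = subMove (par.getD k (0, 0)).1 (o.getD (par.getD k (0, 0)).2 0)) ∧
      ∀ g ∈ genPos, ∀ i ∈ o, subMove g i ∈ o := by
  simp only [orbitCheck, Bool.and_eq_true, decide_eq_true_eq, List.all_eq_true, List.mem_range,
    beq_iff_eq] at h
  obtain ⟨⟨⟨h1, h2⟩, h3⟩, h4⟩ := h
  exact ⟨h1, h2, fun k hk => ⟨(h3 k hk).1.1, (h3 k hk).1.2, (h3 k hk).2⟩,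
    fun g hg i hi => PackPerm.testBit_hits (h4 g hg i hi)⟩

theorem orbit_reach (hF : Fintype.card F = 4) {o : List ℕ} {par : List (ℕ × ℕ)}
    (h : orbitCheck o par = true) {i : ℕ} (hi : i ∈ o) :
    ∃ h : D.H, h • D.pt (o.headD 0) = D.pt i := by
  obtain ⟨hlen, hlt, hpar, -⟩ := orbit_facts h
  have key : ∀ k, k < o.length → ∃ h : D.H, h • D.pt (o.headD 0) = D.pt (o.getD k 0) := by
    intro k
    induction k using Nat.strong_induction_on with
    | h k ih =>
      intro hk
      rcases k with _ | k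
      · exact ⟨1, by rw [one_smul]; cases o <;> rfl⟩
      · obtain ⟨hg, hc, he⟩ := hpar k (by omega)
        obtain ⟨a, ha⟩ := ih _ (show (par.getD k (0, 0)).2 < k + 1 by omega) (by omega)
        obtain ⟨s, hs⟩ := exists_sub D hF (par.getD k (0, 0)).1
        refine ⟨s * a, ?_⟩
        rw [mul_smul, ha, he]
        refine sub_smul D (by omega) hs (hlt _ ?_)
        rw [List.getD_eq_getElem _ _ (by omega)]
        exact List.getElem_mem _
  obtain ⟨k, hk, rfl⟩ := List.getElem_of_mem hi
  obtain ⟨a, ha⟩ := key k hk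
  exact ⟨a, by rw [ha, List.getD_eq_getElem _ _ hk]⟩

theorem cong_inside (hF : Fintype.card F = 4) {o : List ℕ}
    {c : ℕ × List (ℕ × ℕ) × List (ℕ × ℕ) × List (ℕ × ℕ × ℕ)} (hc : congCheck o c = true)
    (hp : o.headD 0 < 416) (hlt : c.1 < 416) {M : Subgroup D.H}
    (hS : MulAction.stabilizer D.H (D.pt (o.headD 0)) ≤ M) {m : D.H} (hm : m ∈ M)
    (hmβ : m • D.pt (o.headD 0) = D.pt c.1) {i : ℕ} (hi : i ∈ o) :
    Inside M (D.pt (o.headD 0)) (D.pt i) := by
  obtain ⟨β, P, E, T⟩ := c
  simp only [congCheck, Bool.and_eq_true, decide_eq_true_eq, List.all_eq_true, List.mem_range,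
    Bool.or_eq_true, Nat.beq_eq, Nat.blt_eq] at hc
  obtain ⟨⟨⟨⟨⟨hlen, he1⟩, he2⟩, hP⟩, hT⟩, hall⟩ := hc
  set x₀ := D.pt (o.headD 0) with hx₀
  have hE : ∀ k, k < E.length → (E.getD k (0, 0)).1 < 416 ∧ (E.getD k (0, 0)).2 < 416 ∧
      Linked M x₀ (D.pt (E.getD k (0, 0)).1) (D.pt (E.getD k (0, 0)).2) := by
    intro k
    induction k using Nat.strong_induction_on with
    | h k ih =>
      intro hk
      rcases k with _ | k
      · rw [he1, he2]
        exact ⟨hp, hlt, hmβ ▸ linked_first hS hm⟩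
      · obtain ⟨⟨⟨hg, hj⟩, h1⟩, h2⟩ := hP k (by omega)
        obtain ⟨l1, l2, l3⟩ := ih _ (show (P.getD k (0, 0)).2 < k + 1 by omega) (by omega)
        obtain ⟨s, hs⟩ := exists_sub D hF (P.getD k (0, 0)).1
        refine ⟨h1 ▸ subMove_lt (by omega) l1, h2 ▸ subMove_lt (by omega) l2, ?_⟩
        rw [h1, h2, ← sub_smul D (by omega) hs l1, ← sub_smul D (by omega) hs l2]
        exact linked_smul s l3
  set V := o.headD 0 :: T.map (·.1) with hV
  have hVk : ∀ k, k < V.length → Inside M x₀ (D.pt (V.getD k 0)) := by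
    intro k
    induction k using Nat.strong_induction_on with
    | h k ih =>
      intro hk
      rcases k with _ | k
      · rw [hV, List.getD_cons_zero]; exact inside_first hS
      · have hk' : k < T.length := by simpa [hV] using hk
        obtain ⟨⟨he, hj⟩, hor⟩ := hT k hk'
        have hv : V.getD (k + 1) 0 = (T.getD k (0, 0, 0)).1 := by
          rw [hV, List.getD_cons_succ, List.getD_eq_getElem _ _ (by simpa using hk'),
            List.getD_eq_getElem _ _ hk', List.getElem_map]
        rw [hv]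
        obtain ⟨-, -, hl⟩ := hE _ he
        have hprev := ih _ (show (T.getD k (0, 0, 0)).2.2 < k + 1 by omega)
          (by simp only [hV, List.length_cons, List.length_map]; omega)
        rcases hor with ⟨ha, hb⟩ | ⟨ha, hb⟩
        · rw [hb] at hl; rw [ha] at hl
          exact inside_step hl hprev
        · rw [ha] at hl; rw [hb] at hl
          exact inside_step (linked_symm hl) hprev
  obtain ⟨k, hk, he⟩ := List.getElem_of_mem (PackPerm.testBit_hits (hall i hi))
  have := hVk k hk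
  rwa [List.getD_eq_getElem _ _ hk, he] at this

theorem isCoatom_stabilizer (hF : Fintype.card F = 4) {o : List ℕ} {par : List (ℕ × ℕ)}
    {d : List (ℕ × Option (ℕ × ℕ))} {cs : List (ℕ × List (ℕ × ℕ) × List (ℕ × ℕ) × List (ℕ × ℕ × ℕ))}
    (ho : orbitCheck o par = true) (hd : descCheck o d (cs.map (·.1)) = true)
    (hc : cs.all (congCheck o) = true) (hlen : 2 ≤ o.length) (hnd : o.Nodup) {i : ℕ} (hi : i ∈ o) :
    IsCoatom (MulAction.stabilizer D.H (D.pt i)) := by
  obtain ⟨p0, rest, rfl⟩ := List.exists_cons_of_ne_nil (show o ≠ [] by intro h; simp [h] at hlen)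
  obtain ⟨-, hlt, -, hcl⟩ := orbit_facts ho
  have hp : p0 < 416 := hlt p0 List.mem_cons_self
  have hbase : IsCoatom (MulAction.stabilizer D.H (D.pt p0)) := by
    refine ⟨fun htop => ?_, fun M hM => ?_⟩
    · obtain ⟨q, rest', rfl⟩ := List.exists_cons_of_ne_nil (show rest ≠ [] by intro h; simp [h] at hlen)
      obtain ⟨a, ha⟩ := orbit_reach D hF ho (i := q) (by simp)
      have hfix : a • D.pt p0 = D.pt p0 := MulAction.mem_stabilizer_iff.1 (htop ▸ Subgroup.mem_top a)
      have : p0 = q := (counting D hF).2.2 p0 hp q (hlt q (by simp)) (hfix.symm.trans ha)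
      simp [this] at hnd
    obtain ⟨hS, hne⟩ := SetLike.lt_iff_le_and_exists.1 hM
    obtain ⟨m, hm, hmS⟩ := hne
    obtain ⟨β, hβ, hmβ⟩ := orbit_invariant D hF hlt hcl m (List.mem_cons_self (a := p0) (l := rest))
    have hβ0 : β ≠ p0 := fun h => hmS (MulAction.mem_stabilizer_iff.2 (by rw [hmβ, h]))
    simp only [descCheck, Bool.and_eq_true, List.all_eq_true, List.mem_range] at hd
    obtain ⟨hcov, hstep⟩ := hd
    have hβd : β ∈ d.map (·.1) := PackPerm.testBit_hits (hcov β (by
      rcases List.mem_cons.1 hβ with h | h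
      · exact absurd h hβ0
      · exact h))
    have key : ∀ q, q < d.length → ∀ x ∈ M, x • D.pt p0 = D.pt (d.getD q (0, none)).1 →
        (d.getD q (0, none)).1 < 416 → ∀ j ∈ p0 :: rest, Inside M (D.pt p0) (D.pt j) := by
      intro q
      induction q using Nat.strong_induction_on with
      | h q ih =>
        intro hq x hx hxq hb j hj
        have := hstep q hq
        generalize he : d.getD q (0, none) = e at this hxq hb
        obtain ⟨y, _ | ⟨s, k⟩⟩ := e
        · simp only [List.contains_iff_mem] at this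
          obtain ⟨c, hcm, rfl⟩ := List.mem_map.1 this
          exact cong_inside D hF (List.all_eq_true.1 hc c hcm) hp hb hS hx hxq hj
        · simp only [Bool.and_eq_true, decide_eq_true_eq, beq_iff_eq, List.headD_cons] at this
          obtain ⟨⟨⟨hk, hs⟩, hfix⟩, hnext⟩ := this
          have hs15 : s < 15 := gen_pos.2.2.1 ▸ hs
          obtain ⟨a, ha⟩ := exists_sub D hF s
          have haM : a ∈ M := hS (MulAction.mem_stabilizer_iff.2 (by rw [sub_smul D hs15 ha hp, hfix]))
          refine ih k hk (by omega) (a * x) (M.mul_mem haM hx) ?_ ?_ j hj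
          · rw [mul_smul, hxq, sub_smul D hs15 ha hb, hnext]
          · rw [← hnext]; exact subMove_lt hs15 hb
    obtain ⟨q, hq, hqe⟩ := List.getElem_of_mem hβd
    rw [List.length_map] at hq
    rw [List.getElem_map] at hqe
    have hins := key q hq m hm (by rw [List.getD_eq_getElem _ _ hq, hqe, hmβ])
      (by rw [List.getD_eq_getElem _ _ hq, hqe]; exact hlt β hβ)
    refine (Subgroup.eq_top_iff' M).2 fun h => ?_
    obtain ⟨j, hj, hje⟩ := orbit_invariant D hF hlt hcl h (List.mem_cons_self (a := p0) (l := rest))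
    exact hins j hj h hje
  obtain ⟨a, ha⟩ := orbit_reach D hF ho hi
  rw [← ha]
  show IsCoatom (MulAction.stabilizer D.H (a • D.pt p0))
  rw [MulAction.stabilizer_smul_eq_stabilizer_map_conj]
  exact ((MulAut.conj a).mapSubgroup.isCoatom_iff _).2 hbase

theorem orbits_facts : orbitCheck orbitLong orbitParLong = true ∧ orbitCheck orbitShort orbitParShort = true ∧
    orbitLong.length = 315 ∧ orbitShort.length = 100 ∧
    (∀ i < 416, (i = 0 ∨ i ∈ orbitLong) ∨ i ∈ orbitShort) ∧ (0 :: orbitShort ++ orbitLong).Nodup := by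
  have h1 := orbitLong_ok
  have h2 := orbitShort_ok
  have h3 := orbit_cover
  simp only [Bool.and_eq_true, decide_eq_true_eq, List.all_eq_true, List.mem_range] at h1 h2 h3
  refine ⟨h1.1, h2.1, h1.2, h2.2, fun i hi => ?_, (nodup_of_noRepeat orbit_nodup).1⟩
  have hm := PackPerm.testBit_hits (h3 i hi)
  simp only [List.cons_append, List.mem_cons, List.mem_append] at hm
  rcases hm with h | h | h
  · exact Or.inl (Or.inl h)
  · exact Or.inr h
  · exact Or.inl (Or.inr h)

theorem isCoatom_H (hF : Fintype.card F = 4) : IsCoatom D.H := by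
  classical
  obtain ⟨hidx, -, hinj⟩ := counting D hF
  refine ⟨fun h => by rw [h, Subgroup.index_top] at hidx; omega, fun M hM => ?_⟩
  obtain ⟨hoL, hoS, hlL, hlS, hcov, hnd⟩ := orbits_facts
  have mem_iff : ∀ i, i < 416 → ∀ x, (QuotientGroup.mk x : _ ⧸ D.H) = D.pt i → (x ∈ M ↔ D.R i ∈ M) := by
    intro i _ x hx
    have h2 : x⁻¹ * D.R i ∈ M := hM.le (QuotientGroup.eq.1 hx)
    constructor
    · intro hxM; simpa using M.mul_mem hxM h2
    · intro hRM; simpa using M.mul_mem hRM (M.inv_mem h2)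
  have closed : ∀ (o : List ℕ) (par : List (ℕ × ℕ)), orbitCheck o par = true → ∀ i ∈ o, D.R i ∈ M →
      ∀ j ∈ o, D.R j ∈ M := by
    intro o par ho i hi hiM j hj
    obtain ⟨a, ha⟩ := orbit_reach D hF ho hi
    obtain ⟨b, hb⟩ := orbit_reach D hF ho hj
    have hlt := (orbit_facts ho).2.1
    have e : (QuotientGroup.mk (((b * a⁻¹ : D.H) : ↥(chevG2.group F)) * D.R i) : _ ⧸ D.H) = D.pt j := by
      show (b * a⁻¹) • D.pt i = D.pt j
      rw [mul_smul, ← ha, inv_smul_smul, hb]
    exact (mem_iff j (hlt j hj) _ e).1 (M.mul_mem (hM.le (b * a⁻¹).2) hiM)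
  let B : Finset ℕ := (Finset.range 416).filter fun i => D.R i ∈ M
  have hB : D.H.relIndex M = B.card := by
    rw [Subgroup.relIndex, Subgroup.index]
    let f : {i // i ∈ B} → ↥M ⧸ D.H.subgroupOf M := fun i =>
      QuotientGroup.mk ⟨D.R i.1, (Finset.mem_filter.1 i.2).2⟩
    have hf : Function.Bijective f := by
      constructor
      · intro i j h
        have h' := QuotientGroup.eq.1 h
        rw [Subgroup.mem_subgroupOf] at h'
        exact Subtype.ext (hinj _ (Finset.mem_range.1 (Finset.mem_filter.1 i.2).1) _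
          (Finset.mem_range.1 (Finset.mem_filter.1 j.2).1) (QuotientGroup.eq.2 h'))
      · intro q
        obtain ⟨⟨x, hx⟩, rfl⟩ := QuotientGroup.mk_surjective q
        obtain ⟨i, hi, he⟩ := exists_pt D (QuotientGroup.mk x)
        refine ⟨⟨i, Finset.mem_filter.2 ⟨Finset.mem_range.2 hi, (mem_iff i hi x he).1 hx⟩⟩,
          QuotientGroup.eq.2 ?_⟩
        rw [Subgroup.mem_subgroupOf]
        exact QuotientGroup.eq.1 he.symm
    rw [← Nat.card_eq_of_bijective f hf, Nat.card_eq_fintype_card, Fintype.card_coe]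
  have hdvd : B.card * M.index = 416 := by rw [← hB, Subgroup.relIndex_mul_index hM.le, hidx]
  have h0 : 0 ∈ B := Finset.mem_filter.2 ⟨Finset.mem_range.2 (by norm_num), hM.le (by
    show D.φ (D.R 0) ∈ matGrp K
    rw [map_R D (by norm_num), reps_facts.2.1, val_oneM]; exact Subgroup.one_mem _)⟩
  have hne : B.card ≠ 1 := by
    intro h1
    have : D.H.relIndex M = 1 := hB.trans h1
    exact absurd (Subgroup.relIndex_eq_one.1 this) hM.not_ge
  rw [List.cons_append, List.nodup_cons, List.nodup_append] at hnd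
  obtain ⟨hz, hndS, hndL, hdis⟩ := hnd
  have all_of : ∀ (o : List ℕ) (par : List (ℕ × ℕ)), orbitCheck o par = true →
      (∃ i ∈ o, i ∈ B) → o.toFinset ⊆ B := by
    rintro o par ho ⟨i, hi, hiB⟩ j hj
    rw [List.mem_toFinset] at hj
    exact Finset.mem_filter.2 ⟨Finset.mem_range.2 ((orbit_facts ho).2.1 j hj),
      closed o par ho i hi (Finset.mem_filter.1 hiB).2 j hj⟩
  have hsmall : M.index = 1 := by
    by_cases hL : ∃ i ∈ orbitLong, i ∈ B
    · have h1 := Finset.card_le_card (all_of _ _ hoL hL)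
      rw [List.toFinset_card_of_nodup hndL, hlL] at h1
      have h2 : M.index ≠ 0 := Subgroup.index_ne_zero_of_finite
      by_contra h3
      have h4 : B.card * 2 ≤ B.card * M.index := Nat.mul_le_mul_left _ (by omega)
      omega
    have hsub : B ⊆ insert 0 orbitShort.toFinset := by
      intro i hiB
      rcases hcov i (Finset.mem_range.1 (Finset.mem_filter.1 hiB).1) with (h | h) | h
      · simp [h]
      · exact absurd ⟨i, h, hiB⟩ hL
      · simp [h]
    exfalso
    have hS : ∃ i ∈ orbitShort, i ∈ B := by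
      by_contra hS
      refine hne (Finset.card_eq_one.2 ⟨0, Finset.eq_singleton_iff_unique_mem.2 ⟨h0, fun i hi => ?_⟩⟩)
      rcases Finset.mem_insert.1 (hsub hi) with h | h
      · exact h
      · exact absurd ⟨i, List.mem_toFinset.1 h, hi⟩ hS
    have heq : B = insert 0 orbitShort.toFinset :=
      Finset.Subset.antisymm hsub (Finset.insert_subset h0 (all_of _ _ hoS hS))
    rw [heq, Finset.card_insert_of_notMem (by
      rw [List.mem_toFinset]; exact fun h => hz (List.mem_append.2 (Or.inl h))),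
      List.toFinset_card_of_nodup hndS, hlS] at hdvd
    omega
  exact Subgroup.index_eq_one.1 hsmall

theorem isCoatom_inf (hF : Fintype.card F = 4) {x : ↥(chevG2.group F)} (hx : x ∉ D.H) :
    IsCoatom ((D.H ⊓ D.H.map (MulAut.conj x).toMonoidHom).subgroupOf D.H) := by
  obtain ⟨hoL, hoS, hlL, hlS, hcov, hnd⟩ := orbits_facts
  rw [List.cons_append, List.nodup_cons, List.nodup_append] at hnd
  obtain ⟨-, hndS, hndL, -⟩ := hnd
  have hd := desc_ok
  simp only [Bool.and_eq_true] at hd
  obtain ⟨i, hi, he⟩ := exists_pt D (QuotientGroup.mk x)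
  have heq : (D.H ⊓ D.H.map (MulAut.conj x).toMonoidHom).subgroupOf D.H =
      MulAction.stabilizer D.H (D.pt i) := by
    ext ⟨y, hy⟩
    rw [Subgroup.mem_subgroupOf, MulAction.mem_stabilizer_iff, ← he, Subgroup.mem_inf,
      Subgroup.mem_map]
    show (y ∈ D.H ∧ ∃ z ∈ D.H, x * z * x⁻¹ = y) ↔
      ((y * x : ↥(chevG2.group F)) : ↥(chevG2.group F) ⧸ D.H) = x
    rw [eq_comm (b := (x : ↥(chevG2.group F) ⧸ D.H)), QuotientGroup.eq]
    constructor
    · rintro ⟨-, z, hz, rfl⟩; simpa [mul_assoc] using hz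
    · intro h; exact ⟨hy, _, h, by group⟩
  rw [heq]
  rcases hcov i hi with (h | h) | h
  · refine absurd ?_ hx
    rw [h, zero_pt, QuotientGroup.eq] at he
    simpa using he
  · exact isCoatom_stabilizer D hF hoL hd.1 congLong_ok (by omega) hndL h
  · exact isCoatom_stabilizer D hF hoS hd.2 congShort_ok (by omega) hndS h

end CfsgLib.G2FourJ2
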