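import Cfsg.Agent.Lib.G2FourJ2.Mat
import Cfsg.Agent.Lib.G2FourJ2.Data
import Cfsg.Agent.Lib.Golay.J2Data

/-!
The checks that are run on the tables.
-/

set_option autoImplicit false

namespace CfsgLib.G2FourJ2

open CfsgLib.Golay
open Data

/-- The coded product along the chain of pairs. -/
noncomputable def prodC (is : List ℕ) : ℕ := Bsgs.prodReps (ops K₀) pairLevels is

/-- The matrix parts of the coded product along levels. -/
def prodMats : List Bsgs.Lvl → List ℕ → ℕ
  | l :: ls, i :: is => mulM (mPart (l.reps.getD i oneC)) (prodMats ls is)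
  | _, _ => oneM

/-- The matrix part of the coded product along the chain of pairs. -/
def prodM (is : List ℕ) : ℕ := prodMats pairLevels is

theorem mPart_oneC : mPart oneC = oneM := mPart_mkC oneM_lt

theorem prodMats_eq : ∀ (ls : List Bsgs.Lvl) (is : List ℕ),
    mPart (Bsgs.prodReps (ops K₀) ls is) = prodMats ls is
  | [], _ => mPart_oneC
  | _ :: _, [] => mPart_oneC
  | l :: ls, i :: is => by
    show mPart (mulC (l.reps.getD i oneC) (Bsgs.prodReps (ops K₀) ls is)) = _
    rw [mulC_parts.2, prodMats_eq ls is]
    rfl

theorem prodM_eq (is : List ℕ) : prodM is = mPart (prodC is) := (prodMats_eq _ is).symm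

/-- The representative of a coset. -/
def cosetRep (i : ℕ) : ℕ :=
  if i.blt 416 then (repsPacked >>> (72 * i)) % 4722366482869645213696 else oneM

/-- The matrix of an acting element of the subgroup. -/
def subGen (k : ℕ) : ℕ := prodM (handles.getD k [])

/-- The image in a packed table. -/
def target (P i : ℕ) : ℕ := (P >>> (16 * i)) % 65536

/-- The check of one entry of a table. -/
def entCheck (g P i : ℕ) (is : List ℕ) : Bool :=
  (target P i).blt 416 && (mulM g (cosetRep i)).beq (mulM (cosetRep (target P i)) (prodM is))

/-- The check of the entries from a position on. -/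
def rowsCheck (g P : ℕ) : ℕ → List (List ℕ) → Bool
  | _, [] => true
  | i, e :: es => entCheck g P i e && rowsCheck g P (i + 1) es

/-- The check of a table. -/
def tabCheck (g P : ℕ) (T : List (List ℕ)) : Bool := T.length.beq 416 && rowsCheck g P 0 T

/-- Where an acting element of the subgroup sends a coset. -/
def subMove (k i : ℕ) : ℕ := target (subTo.getD k 0) i

/-- No entry repeats, recorded in a bit mask. -/
def noRepeat : ℕ → List ℕ → Bool
  | _, [] => true
  | m, a :: L => !m.testBit a && noRepeat (m ||| (1 <<< a)) L

theorem nodup_of_noRepeat : ∀ {L : List ℕ} {m : ℕ}, noRepeat m L = true →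
    L.Nodup ∧ ∀ a ∈ L, m.testBit a = false
  | [], _, _ => ⟨List.nodup_nil, fun a ha => absurd ha List.not_mem_nil⟩
  | a :: L, m, h => by
    simp only [noRepeat, Bool.and_eq_true, Bool.not_eq_true'] at h
    obtain ⟨h1, h2⟩ := nodup_of_noRepeat h.2
    refine ⟨List.nodup_cons.2 ⟨fun ha => ?_, h1⟩, fun b hb => ?_⟩
    · have := h2 a ha
      rw [Nat.testBit_or, Nat.one_shiftLeft, Nat.testBit_two_pow_self, Bool.or_true] at this
      exact Bool.noConfusion this
    · rcases List.mem_cons.1 hb with rfl | hb
      · exact h.1
      · have := h2 b hb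
        rw [Nat.testBit_or, Bool.or_eq_false_iff] at this
        exact this.1

/-- The check of an orbit. -/
def orbitCheck (o : List ℕ) (par : List (ℕ × ℕ)) : Bool :=
  decide (par.length + 1 = o.length) && o.all (fun i => decide (i < 416)) &&
    (List.range par.length).all (fun k =>
      decide ((par.getD k (0, 0)).1 < 2) && decide ((par.getD k (0, 0)).2 ≤ k) &&
        o.getD (k + 1) 0 == subMove (par.getD k (0, 0)).1 (o.getD (par.getD k (0, 0)).2 0)) &&
    let m := PackPerm.hits o
    genPos.all fun g => o.all fun i => m.testBit (subMove g i)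

/-- The check of the descent to the representatives. -/
def descCheck (o : List ℕ) (d : List (ℕ × Option (ℕ × ℕ))) (reps : List ℕ) : Bool :=
  (let m := PackPerm.hits (d.map (·.1)); o.tail.all fun i => m.testBit i) &&
    (List.range d.length).all fun p =>
      match d.getD p (0, none) with
      | (x, none) => reps.contains x
      | (x, some (s, k)) => decide (k < p) && decide (s < handles.length) &&
          subMove s (o.headD 0) == o.headD 0 && subMove s x == (d.getD k (0, none)).1

/-- The check of a derivation: the listed pairs come from the first one by moving, and they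
connect the orbit. -/
def congCheck (o : List ℕ) (c : ℕ × List (ℕ × ℕ) × List (ℕ × ℕ) × List (ℕ × ℕ × ℕ)) : Bool :=
  let P := c.2.1
  let E := c.2.2.1
  let T := c.2.2.2
  let V := o.headD 0 :: T.map (·.1)
  decide (E.length = P.length + 1) && (E.getD 0 (0, 0)).1.beq (o.headD 0) &&
    (E.getD 0 (0, 0)).2.beq c.1 &&
    (List.range P.length).all (fun k =>
      let gj := P.getD k (0, 0)
      gj.1.blt 2 && decide (gj.2 ≤ k) &&
        (E.getD (k + 1) (0, 0)).1.beq (subMove gj.1 (E.getD gj.2 (0, 0)).1) &&
        (E.getD (k + 1) (0, 0)).2.beq (subMove gj.1 (E.getD gj.2 (0, 0)).2)) &&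
    (List.range T.length).all (fun k =>
      let t := T.getD k (0, 0, 0)
      let e := E.getD t.2.1 (0, 0)
      decide (t.2.1 < E.length) && decide (t.2.2 ≤ k) &&
        ((e.1.beq (V.getD t.2.2 0) && e.2.beq t.1) || (e.2.beq (V.getD t.2.2 0) && e.1.beq t.1))) &&
    let m := PackPerm.hits V
    o.all fun i => m.testBit i

/-- The bits of a parameter of a root element. -/
def parBits (k : ℕ) : Bool × Bool := if k % 3 = 0 then (true, false) else if k % 3 = 1 then (false, true) else (true, true)

/-- Whether a place occurs an odd number of times. -/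
def oddAt (l : List (Spectrum.G2.Ix × Spectrum.G2.Ix)) (i j : Spectrum.G2.Ix) : Bool :=
  Spectrum.G2.cnt l (i, j) % 2 == 1

/-- The check of the code of a root element. -/
def rootCheck (A k : ℕ) (r : Fin 12) (i j : Spectrum.G2.Ix) : Bool :=
  let a := (parBits k).1
  let b := (parBits k).2
  let lo := oddAt (Spectrum.G2.linL r) i j
  let qo := oddAt (Spectrum.G2.quadL r) i j
  A.testBit (6 * Spectrum.G2.code i + Spectrum.G2.code j) ==
      xor (xor (decide (i = j)) (a && lo)) (xor a b && qo) &&
    A.testBit (36 + (6 * Spectrum.G2.code i + Spectrum.G2.code j)) == xor (b && lo) (b && qo)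

/-- The codes of all root elements. -/
def allCodes : List ℕ := bigGens ++ rootSlp.map (·.1)

/-- The code of a root element. -/
def rootCode (k : ℕ) : ℕ := allCodes.getD (rootPos.getD k 0) oneM

/-- The coordinates in order. -/
def ixList : List Spectrum.G2.Ix := (List.finRange 6).map Spectrum.G2.coord

/-- The check of all root codes. -/
def rootsCheck : Bool :=
  (List.range 36).all fun k => (List.finRange 12).all fun r =>
    decide (r.val ≠ k / 3) || ixList.all fun i => ixList.all fun j => rootCheck (rootCode k) k r i j

/-- The check of the products giving the root elements. -/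
def slpOk : List ℕ → List (ℕ × Bool × ℕ × ℕ) → Bool
  | _, [] => true
  | T, (c, _, i, j) :: rest =>
    okM c && decide (i < T.length) && decide (j < T.length) &&
      c.beq (mulM (T.getD i oneM) (T.getD j oneM)) && slpOk (T ++ [c]) rest

/-- The check of the representatives. -/
def repsCheck : Bool :=
  (List.range 416).all (fun i => okM (cosetRep i)) && (cosetRep 0).beq oneM

/-- The reach check of the representatives: each is a product of a generator and an earlier one. -/
def reachCheck (par : List (ℕ × ℕ)) : Bool :=
  decide (par.length + 1 = 416) &&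
    (List.range par.length).all fun k =>
      decide ((par.getD k (0, 0)).1 < 8) && decide ((par.getD k (0, 0)).2 ≤ k) &&
        (cosetRep (k + 1)).beq (mulM (bigGens.getD (par.getD k (0, 0)).1 oneM) (cosetRep (par.getD k (0, 0)).2))

end CfsgLib.G2FourJ2
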