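import Cfsg.Agent.Lib.G2FourJ2.Iso
import Cfsg.Agent.Lib.Chev.Orders

/-!
The Chevalley group of type G₂ over four elements as the group of the coded root elements, and
the cover by 416 cosets.
-/

set_option autoImplicit false

namespace CfsgLib.G2FourJ2

open Cfsg.Lie Matrix
open CfsgLib.Golay
open Data
open CfsgLib.Spectrum.G2 (Ix linL quadL cnt sp sp_apply root)
open CfsgLib.J3 (Fld val2 val2_add val2_mul)
open scoped MatrixGroups

attribute [local irreducible] mulM mkC pPart mPart okM oneM toMat val rootCode cosetRep prodM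

variable {F : Type*} [Field F] (K : Fld F)

/-- The parameter of the root element with a given number. -/
def par (k : ℕ) : F := val2 K (parBits k).1 (parBits k).2

theorem val2_zero : val2 K false false = 0 := by simp [val2]

theorem val2_one : val2 K true false = 1 := by simp [val2]

theorem val2_sq (a b : Bool) : val2 K a b ^ 2 = val2 K (xor a b) b := by
  rw [pow_two, val2_mul]
  cases a <;> cases b <;> rfl

theorem lift_sp [CharP F 2] (l : List (Ix × Ix)) (i j : Ix) :
    Spectrum.G2.lift F (sp l) i j = if oddAt l i j then 1 else 0 := by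
  simp only [Spectrum.G2.lift, RingHom.mapMatrix_apply, Matrix.map_apply, sp_apply, map_natCast, oddAt,
    beq_iff_eq]
  rcases Nat.even_or_odd (cnt l (i, j)) with h | h
  · obtain ⟨m, hm⟩ := h
    rw [if_neg (by omega), CharP.cast_eq_zero_iff F 2]
    omega
  · obtain ⟨m, hm⟩ := h
    rw [if_pos (by omega), hm]
    push_cast
    linear_combination (m : F) * (CharTwo.two_eq_zero (R := F))

theorem rootCode_eq [CharP F 2] {k : ℕ} (hk : k < 36) :
    toMat K (rootCode k) = root F (⟨k / 3, by show k / 3 < 12; omega⟩ : Fin chevG2.nroots) (par K k) := by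
  set r : Fin 12 := ⟨k / 3, by omega⟩ with hr
  have h := List.all_eq_true.1 (List.all_eq_true.1 roots_ok k (List.mem_range.2 hk)) r (List.mem_finRange r)
  simp only [hr, ne_eq, not_true_eq_false, decide_false, Bool.false_or] at h
  ext i j
  have hmem : ∀ z : Ix, z ∈ ixList := fun z => List.mem_map.2
    ⟨e6 z, List.mem_finRange _, e6.symm_apply_apply z⟩
  have hij := List.all_eq_true.1 (List.all_eq_true.1 h i (hmem i)) j (hmem j)
  simp only [rootCheck, Bool.and_eq_true, beq_iff_eq] at hij
  rw [toMat_apply, hij.1, hij.2]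
  show _ = (1 + par K k • Spectrum.G2.lift F (Spectrum.G2.lin r) +
    par K k ^ 2 • Spectrum.G2.lift F (Spectrum.G2.quad r)) i j
  rw [Matrix.add_apply, Matrix.add_apply, Matrix.smul_apply, Matrix.smul_apply, Spectrum.G2.lin,
    Spectrum.G2.quad, lift_sp, lift_sp, par, val2_sq, Matrix.one_apply]
  rw [← hr]
  by_cases hd : i = j <;> cases oddAt (linL r) i j <;> cases oddAt (quadL r) i j <;>
    simp only [hd, if_true, if_false, decide_true, decide_false, smul_eq_mul, mul_one, mul_zero,
      Bool.and_true, Bool.and_false, Bool.false_eq_true, Bool.xor_false, Bool.false_xor, add_zero,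
      zero_add, val2_zero, val2_one] <;>
    simp only [← val2_one K, val2_add] <;> simp
where
  toMat_apply {A : ℕ} {i j : Ix} : toMat K A i j =
      val2 K (A.testBit (6 * Spectrum.G2.code i + Spectrum.G2.code j))
        (A.testBit (36 + (6 * Spectrum.G2.code i + Spectrum.G2.code j))) := by
    unfold toMat; rfl

theorem allCodes_ok : ∀ (T : List ℕ) (st : List (ℕ × Bool × ℕ × ℕ)), slpOk T st = true →
    T.all okM = true → ∀ (M : Subgroup (GL Ix F)), (∀ c ∈ T, val K c ∈ M) →
    ∀ c ∈ T ++ st.map (·.1), okM c = true ∧ val K c ∈ M := by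
  intro T st
  induction st generalizing T with
  | nil =>
    intro _ hT M hM c hc
    simp only [List.map_nil, List.append_nil] at hc
    exact ⟨List.all_eq_true.1 hT c hc, hM c hc⟩
  | cons e rest ih =>
    obtain ⟨c₀, b, i, j⟩ := e
    intro h hT M hM
    simp only [slpOk, Bool.and_eq_true, decide_eq_true_eq, Nat.beq_eq] at h
    obtain ⟨⟨⟨⟨hok, hi⟩, hj⟩, he⟩, hrec⟩ := h
    have hmi : T.getD i oneM ∈ T := by rw [List.getD_eq_getElem _ _ hi]; exact List.getElem_mem _
    have hmj : T.getD j oneM ∈ T := by rw [List.getD_eq_getElem _ _ hj]; exact List.getElem_mem _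
    have hT' := List.all_eq_true.1 hT
    have h1 : val K c₀ ∈ M := by
      rw [he, val_mulM K (hT' _ hmi) (hT' _ hmj)]
      exact M.mul_mem (hM _ hmi) (hM _ hmj)
    intro c hc
    refine ih (T ++ [c₀]) hrec ?_ M ?_ c ?_
    · simp only [List.all_append, hT, List.all_cons, hok, List.all_nil, Bool.and_true]
    · intro x hx
      rcases List.mem_append.1 hx with hx | hx
      · exact hM x hx
      · rw [List.mem_singleton.1 hx]; exact h1
    · simpa [List.append_assoc] using hc

theorem big_pos : (List.range 8).all (fun g => (List.range 36).any fun k =>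
    (rootCode k).beq (bigGens.getD g oneM)) = true := by decide +kernel

theorem root_pos : (List.range 36).all (fun k => decide (rootPos.getD k 0 < allCodes.length)) = true := by
  decide +kernel

/-- The group generated by the coded simple root elements. -/
noncomputable def bigGrp : Subgroup (GL Ix F) :=
  Subgroup.closure {g | ∃ c ∈ bigGens, val K c = g}

theorem rootCode_mem {k : ℕ} (hk : k < 36) :
    okM (rootCode k) = true ∧ val K (rootCode k) ∈ bigGrp K := by
  have h := slp_ok
  simp only [Bool.and_eq_true] at h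
  refine allCodes_ok K bigGens rootSlp h.1.2 h.1.1 (bigGrp K)
    (fun c hc => Subgroup.subset_closure ⟨c, hc, rfl⟩) _ ?_
  have hp := List.all_eq_true.1 root_pos k (List.mem_range.2 hk)
  simp only [decide_eq_true_eq] at hp
  unfold rootCode
  rw [List.getD_eq_getElem _ _ hp]
  exact List.getElem_mem _

theorem bigGens_ok {c : ℕ} (hc : c ∈ bigGens) : okM c = true := by
  have h := slp_ok
  simp only [Bool.and_eq_true] at h
  exact List.all_eq_true.1 h.1.1 c hc

theorem range_eq [Finite F] [CharP F 2] {φ : ↥(chevG2.group F) →* GL Ix F}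
    (hφ : ∀ (g : ↥(chevG2.group F)) (r : Fin chevG2.nroots) (t : F),
      ((g : GL chevG2.Idx F) : Matrix chevG2.Idx chevG2.Idx F) = chevG2.xMat F r t →
        (φ g : Matrix Ix Ix F) = root F r t) :
    φ.range = bigGrp K := by
  have hgen : (⊤ : Subgroup ↥(chevG2.group F)) =
      Subgroup.closure {g : ↥(chevG2.group F) | ∃ (r : Fin chevG2.nroots) (t : F),
        ((g : GL chevG2.Idx F) : Matrix chevG2.Idx chevG2.Idx F) = chevG2.xMat F r t} := by
    symm
    exact Subgroup.closure_closure_coe_preimage
  apply le_antisymm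
  · rw [MonoidHom.range_eq_map, hgen, MonoidHom.map_closure, Subgroup.closure_le]
    rintro _ ⟨g, ⟨r, t, hg⟩, rfl⟩
    have hgr := hφ g r t hg
    by_cases ht : t = 0
    · have h1 : φ g = 1 := Units.ext (by rw [hgr, ht]; simp [root])
      rw [h1]; exact Subgroup.one_mem _
    have key : ∀ k, k < 36 → k / 3 = r.val → par K k = t → φ g ∈ bigGrp K := by
      intro k hk h1 h2
      obtain ⟨hok, hmem⟩ := rootCode_mem K hk
      have e : φ g = val K (rootCode k) := Units.ext (by
        rw [val_coe K hok, rootCode_eq K hk, hgr, ← h2]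
        congr 1
        exact Fin.ext h1.symm)
      rw [e]; exact hmem
    have hr : r.val < 12 := r.isLt
    rcases K.elems t with h | h | h | h
    · exact absurd h ht
    · exact key (3 * r.val) (by omega) (by omega) (by
        rw [par, parBits, if_pos (by omega), h]; simp [val2])
    · exact key (3 * r.val + 1) (by omega) (by omega) (by
        rw [par, parBits, if_neg (by omega), if_pos (by omega), h]; simp [val2])
    · exact key (3 * r.val + 2) (by omega) (by omega) (by
        rw [par, parBits, if_neg (by omega), if_neg (by omega), h]; simp [val2])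
  · rw [bigGrp, Subgroup.closure_le]
    rintro _ ⟨c, hc, rfl⟩
    obtain ⟨g, hg, rfl⟩ := List.getElem_of_mem hc
    have h8 : g < 8 := bigTab_lengths.2 ▸ hg
    obtain ⟨k, hk, hke⟩ := List.any_eq_true.1 (List.all_eq_true.1 big_pos g (List.mem_range.2 h8))
    rw [List.mem_range] at hk
    simp only [Nat.beq_eq] at hke
    rw [List.getD_eq_getElem _ _ hg] at hke
    have hr := rootCode_eq K hk
    set r : Fin chevG2.nroots := ⟨k / 3, by show k / 3 < 12; omega⟩
    have hlt : r.val < chevG2.nroots := r.isLt
    let x : GL chevG2.Idx F := Chev.xU chevG2 r.val (par K k)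
    have hx : x ∈ chevG2.group F := Chev.DataG2.facts.xU_mem_group hlt _
    have hxm : (x : Matrix chevG2.Idx chevG2.Idx F) = chevG2.xMat F r (par K k) := by
      rw [Chev.DataG2.facts.xU_val hlt, ChevalleyDatum.x, dif_pos hlt]
    refine ⟨⟨x, hx⟩, Units.ext ?_⟩
    rw [hφ ⟨x, hx⟩ r (par K k) hxm, ← hr, ← hke, val_coe K (rootCode_mem K hk).1]

theorem card_group [Fintype F] (hF : Fintype.card F = 4) : Nat.card ↥(chevG2.group F) = 251596800 := by
  have h := Chev.order_G2 (F := F)
  rw [Nat.card_eq_fintype_card (α := F), hF, one_mul] at h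
  simpa using h

end CfsgLib.G2FourJ2
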