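import Cfsg.Agent.Lib.G2FourJ2.ChecksA
import Cfsg.Agent.Lib.Ico.J2
import Cfsg.Agent.Lib.Ico.U33Iso

/-!
The matrices of the chain of pairs form a Hall–Janko group.
-/

set_option autoImplicit false

namespace CfsgLib.G2FourJ2

open CfsgLib.Golay
open Data
open CfsgLib.Spectrum.G2 (Ix)
open scoped MatrixGroups

attribute [local irreducible] mulM mkC pPart mPart okM okC mulC oneC oneM pairLevels Golay.PackPerm.okP
  Golay.PackPerm.mulP Golay.PackPerm.pack Golay.PackPerm.getP Golay.J2.levels

variable {F : Type*} [Field F] [Finite F] (K : J3.Fld F)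

/-- The group of pairs. -/
noncomputable def pairGrp : Subgroup (Equiv.Perm (Fin 100) × GL Ix F) := Bsgs.grp (ops K) pairLevels

/-- The group of matrices. -/
noncomputable def matGrp : Subgroup (GL Ix F) := (pairGrp K).map (MonoidHom.snd _ _)

theorem pairs_check : Bsgs.check (ops K) [] pairLevels = true := (check_congr K K₀ _ _).trans pairs_ok

theorem card_pairGrp : Nat.card (pairGrp K) = 604800 := by
  have h := (Bsgs.spec (ops K) (fun f hf => absurd hf List.not_mem_nil) (pairs_check K)).2.2.2.1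
  exact h.trans pairs_card

theorem prodC_mem (is : List ℕ) :
    okC (prodC is) = true ∧ okM (prodM is) = true ∧ val K (prodM is) ∈ matGrp K := by
  obtain ⟨h1, h2⟩ := (Bsgs.spec (ops K) (fun f hf => absurd hf List.not_mem_nil) (pairs_check K)).2.2.1 is
  rw [prodReps_congr K K₀] at h1 h2
  have h1' : okC (prodC is) = true := h1
  have hm : okM (mPart (prodC is)) = true := by
    have := h1'
    unfold okC at this
    simp only [Bool.and_eq_true] at this
    exact this.2
  rw [prodM_eq]
  exact ⟨h1', hm, ⟨_, h2, rfl⟩⟩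

theorem fst_pairGrp : (pairGrp K).map (MonoidHom.fst _ _) = Golay.J2.grpJ2 ∧
    ∀ p ∈ pairGrp K, p.1 = 1 → p = 1 := by
  have hinj : ∀ p ∈ pairGrp K, p.1 = 1 → p = 1 := fun p hp h =>
    Ico.U33.eq_one_of_fix (ops K) (fun f hf => absurd hf List.not_mem_nil) (pairs_check K) hp
      fun l _ => by rw [pair_smul, h, one_smul]
  refine ⟨?_, hinj⟩
  have hle : (pairGrp K).map (MonoidHom.fst _ _) ≤ Golay.J2.grpJ2 := by
    rw [pairGrp, Bsgs.grp, MonoidHom.map_closure, Subgroup.closure_le]
    rintro _ ⟨_, ⟨c, hc, rfl⟩, rfl⟩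
    obtain ⟨hall, hlen⟩ := perm_mem
    obtain ⟨i, hi, rfl⟩ := List.getElem_of_mem hc
    have hi' : i < permMem.length := hlen ▸ hi
    have hz : ((Bsgs.allGens pairLevels)[i], permMem[i]) ∈ (Bsgs.allGens pairLevels).zip permMem := by
      rw [List.mem_iff_getElem]
      exact ⟨i, by simp [List.length_zip, hi, hi'], List.getElem_zip⟩
    have := List.all_eq_true.1 hall _ hz
    simp only [Nat.beq_eq] at this
    show permOps.val (pPart (Bsgs.allGens pairLevels)[i]) ∈ _
    rw [this]
    exact (Golay.J2.levels_spec.2.2.1 _).2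
  refine Subgroup.eq_of_le_of_card_ge hle ?_
  let f : pairGrp K →* ((pairGrp K).map (MonoidHom.fst _ _) : Subgroup (Equiv.Perm (Fin 100))) :=
    (MonoidHom.fst (Equiv.Perm (Fin 100)) (GL Ix F)).subgroupMap (pairGrp K)
  have hf : Function.Injective f := (injective_iff_map_eq_one f).2 fun p hp =>
    Subtype.ext (hinj p.1 p.2 (congrArg Subtype.val hp))
  rw [Golay.J2.card_grpJ2, ← card_pairGrp K]
  exact Nat.card_le_card_of_injective f hf

theorem exists_matEquiv : Nonempty (matGrp K ≃* Cfsg.Spor.J2) := by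
  obtain ⟨hfst, hinj⟩ := fst_pairGrp K
  let f : pairGrp K →* ((pairGrp K).map (MonoidHom.fst _ _) : Subgroup (Equiv.Perm (Fin 100))) :=
    (MonoidHom.fst (Equiv.Perm (Fin 100)) (GL Ix F)).subgroupMap (pairGrp K)
  have hf : Function.Bijective f := ⟨(injective_iff_map_eq_one f).2 fun p hp =>
    Subtype.ext (hinj p.1 p.2 (congrArg Subtype.val hp)), MonoidHom.subgroupMap_surjective _ _⟩
  let e₁ : pairGrp K ≃* Golay.J2.grpJ2 := (MulEquiv.ofBijective f hf).trans (MulEquiv.subgroupCongr hfst)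
  let g : pairGrp K →* matGrp K := (MonoidHom.snd (Equiv.Perm (Fin 100)) (GL Ix F)).subgroupMap (pairGrp K)
  haveI : IsSimpleGroup Golay.J2.grpJ2 := Golay.J2.grpJ2_simple
  haveI : IsSimpleGroup (pairGrp K) := e₁.isSimpleGroup
  have hg : Function.Injective g := by
    refine (MonoidHom.ker_eq_bot_iff _).1 ((g.normal_ker).eq_bot_or_eq_top.resolve_right fun htop => ?_)
    have h1 : ∀ p ∈ pairGrp K, p.2 = 1 := fun p hp => by
      have : (⟨p, hp⟩ : pairGrp K) ∈ g.ker := htop ▸ Subgroup.mem_top _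
      exact congrArg Subtype.val (MonoidHom.mem_ker.1 this)
    obtain ⟨c, hc, hne⟩ := List.any_eq_true.1 nontriv_gen
    have hmem : (ops K).val c ∈ pairGrp K := Subgroup.subset_closure ⟨c, hc, rfl⟩
    simp only [Bool.and_eq_true, Bool.not_eq_true', Nat.beq_eq] at hne
    have e : val K (mPart c) = 1 := h1 _ hmem
    have e' : toMat K (mPart c) = toMat K oneM := by
      rw [← val_coe K hne.1, e, toMat_oneM]; rfl
    have := toMat_inj K (ok_spec K hne.1).1 oneM_lt e'
    rw [this] at hne
    simp at hne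
  let e₂ : pairGrp K ≃* matGrp K :=
    MulEquiv.ofBijective g ⟨hg, MonoidHom.subgroupMap_surjective _ _⟩
  obtain ⟨e₃⟩ := Ico.j2_equiv
  exact ⟨e₂.symm.trans (e₁.trans e₃.symm)⟩
where
  nontriv_gen : (Bsgs.allGens pairLevels).any (fun c => okM (mPart c) && !(mPart c).beq oneM) = true := by
    decide +kernel

theorem card_matGrp : Nat.card (matGrp K) = 604800 := by
  obtain ⟨e⟩ := exists_matEquiv K
  rw [Nat.card_congr e.toEquiv, Ico.card_j2]

end CfsgLib.G2FourJ2
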