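import Cfsg.Agent.Lib.J3.Mat
import Cfsg.Agent.Lib.G2FourJ2.Bits
import Cfsg.Agent.Lib.Golay.PackPerm
import Cfsg.Agent.Lib.Spectrum.G2Four.Rep

/-!
Pairs of a permutation of one hundred points and a packed symplectic 6 × 6 matrix over a field
with four elements.
-/

set_option autoImplicit false

namespace CfsgLib.G2FourJ2

open Matrix
open CfsgLib.Spectrum.G2 (Ix coord code)
open CfsgLib.J3 (Fld val2 val2_add val2_mul val2_inj)
open CfsgLib.Golay (Bsgs.Ops)
open scoped MatrixGroups

theorem code_lt : ∀ z : Ix, code z < 6 := by decide +kernel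

/-- The numbering of the indices. -/
def e6 : Ix ≃ Fin 6 where
  toFun z := ⟨code z, code_lt z⟩
  invFun := coord
  left_inv := by decide +kernel
  right_inv := by decide +kernel

/-- The shift of an index by three. -/
def flip6 (z : Ix) : Ix := z.swap

theorem code_flip6 : ∀ z : Ix, code (flip6 z) = (code z + 3) % 6 := by decide +kernel

variable {F : Type*} [Field F] (K : Fld F)

/-- The matrix of a code. -/
def toMat (A : ℕ) : Matrix Ix Ix F :=
  fun i j => val2 K (A.testBit (6 * code i + code j)) (A.testBit (36 + (6 * code i + code j)))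

/-- The adjoint for the alternating form. -/
def adjT (M : Matrix Ix Ix F) : Matrix Ix Ix F := fun i j => M (flip6 j) (flip6 i)

theorem adjT_mul (M N : Matrix Ix Ix F) : adjT (M * N) = adjT N * adjT M := by
  ext i j
  simp only [adjT, Matrix.mul_apply]
  refine (Fintype.sum_equiv (Equiv.sumComm (Fin 3) (Fin 3)) _ _ fun k => ?_)
  rw [mul_comm]
  simp [flip6, Equiv.sumComm]

theorem toMat_mulM (A B : ℕ) : toMat K (mulM A B) = toMat K A * toMat K B := by
  ext i j
  have hi := code_lt i
  have hj := code_lt j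
  rw [Matrix.mul_apply, ← Equiv.sum_comp e6.symm]
  have e : ∀ k : Fin 6, code (e6.symm k) = k.val := fun k => congrArg Fin.val (e6.apply_symm_apply k)
  simp only [toMat, e, val2_mul, Fin.sum_univ_succ, Fin.sum_univ_zero, add_zero, val2_add]
  have hlt : ∀ a0 a1 b0 b1, term0 a0 a1 b0 b1 0 ^^^ term0 a0 a1 b0 b1 1 ^^^ term0 a0 a1 b0 b1 2 ^^^
      term0 a0 a1 b0 b1 3 ^^^ term0 a0 a1 b0 b1 4 ^^^ term0 a0 a1 b0 b1 5 < 2 ^ 36 := fun a0 a1 b0 b1 => by
    repeat' first
      | exact term0_lt _ _ _ _ _
      | apply Nat.xor_lt_two_pow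
  simp only [mulM, mulAux, mk_testBit_low (hlt _ _ _ _) _ (show 6 * code i + code j < 36 by omega),
    mk_testBit_high (hlt _ _ _ _), Nat.testBit_xor, term0_testBit _ _ _ _ _ hi hj,
    term1_testBit _ _ _ _ _ hi hj, p1_testBit]
  have hp : ∀ a b : ℕ, a < 6 → b < 6 → ∀ C, (p0 C).testBit (6 * a + b) = C.testBit (6 * a + b) :=
    fun a b ha hb C => p0_testBit C (by omega)
  simp only [hp _ _ hi (show (0 : ℕ) < 6 by norm_num), hp _ _ hi (show (1 : ℕ) < 6 by norm_num),
    hp _ _ hi (show (2 : ℕ) < 6 by norm_num), hp _ _ hi (show (3 : ℕ) < 6 by norm_num),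
    hp _ _ hi (show (4 : ℕ) < 6 by norm_num), hp _ _ hi (show (5 : ℕ) < 6 by norm_num),
    hp _ _ (show (0 : ℕ) < 6 by norm_num) hj, hp _ _ (show (1 : ℕ) < 6 by norm_num) hj,
    hp _ _ (show (2 : ℕ) < 6 by norm_num) hj, hp _ _ (show (3 : ℕ) < 6 by norm_num) hj,
    hp _ _ (show (4 : ℕ) < 6 by norm_num) hj, hp _ _ (show (5 : ℕ) < 6 by norm_num) hj]
  congr 1 <;> simp

theorem toMat_adjM (A : ℕ) : toMat K (adjM A) = adjT (toMat K A) := by
  ext i j
  have hi := code_lt i
  have hj := code_lt j
  have e : 6 * code (flip6 j) + code (flip6 i) < 36 := by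
    have := code_lt (flip6 j); have := code_lt (flip6 i); omega
  simp only [adjT, toMat, adjM]
  rw [mk_testBit_low (adjP_lt _) _ (by omega), mk_testBit_high (adjP_lt _), adjP_testBit _ hi hj,
    adjP_testBit _ hi hj, ← code_flip6, ← code_flip6, p0_testBit _ e, p1_testBit]

theorem toMat_inj {A B : ℕ} (hA : A < 2 ^ 72) (hB : B < 2 ^ 72) (h : toMat K A = toMat K B) :
    A = B := by
  have key : ∀ i < 6, ∀ j < 6, A.testBit (6 * i + j) = B.testBit (6 * i + j) ∧
      A.testBit (36 + (6 * i + j)) = B.testBit (36 + (6 * i + j)) := by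
    intro i hi j hj
    have e : ∀ k (hk : k < 6), code (e6.symm ⟨k, hk⟩) = k := fun k hk =>
      congrArg Fin.val (e6.apply_symm_apply ⟨k, hk⟩)
    have := congrFun (congrFun h (e6.symm ⟨i, hi⟩)) (e6.symm ⟨j, hj⟩)
    simp only [toMat, e] at this
    exact val2_inj K this
  exact code_ext hA hB (fun i hi j hj => (key i hi j hj).1) (fun i hi j hj => (key i hi j hj).2)

theorem toMat_oneM : toMat K oneM = 1 := by
  ext i j
  obtain ⟨h0, h1⟩ := oneM_testBit (e6 i) (e6 j)
  simp only [toMat, show (e6 i).val = code i from rfl, show (e6 j).val = code j from rfl] at h0 h1 ⊢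
  rw [h0, h1]
  by_cases h : i = j
  · subst h; simp [val2]
  · simp [val2, h, e6.injective.ne h]

/-- Validity: in range and symplectic. -/
def okM (A : ℕ) : Bool := A.blt 4722366482869645213696 && (mulM A (adjM A)).beq oneM

theorem two72 : (4722366482869645213696 : ℕ) = 2 ^ 72 := by norm_num

theorem ok_spec {A : ℕ} (h : okM A = true) :
    A < 2 ^ 72 ∧ toMat K A * adjT (toMat K A) = 1 := by
  simp only [okM, Bool.and_eq_true, Nat.blt_eq, Nat.beq_eq, two72] at h
  refine ⟨h.1, ?_⟩
  rw [← toMat_adjM, ← toMat_mulM, h.2, toMat_oneM]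

theorem oneM_lt : oneM < 2 ^ 72 := by
  rw [← two72]
  decide +kernel

theorem ok_oneM : okM oneM = true := by decide +kernel

/-- The group element of a code. -/
def val (A : ℕ) : GL Ix F :=
  if h : okM A = true then
    ⟨toMat K A, adjT (toMat K A), (ok_spec K h).2, mul_eq_one_comm.1 (ok_spec K h).2⟩
  else 1

theorem val_coe {A : ℕ} (h : okM A = true) : (val K A : Matrix Ix Ix F) = toMat K A := by
  rw [val, dif_pos h]

theorem ok_mulM {A B : ℕ} (hA : okM A = true) (hB : okM B = true) (K : Fld F) :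
    okM (mulM A B) = true := by
  obtain ⟨-, hA'⟩ := ok_spec K hA
  obtain ⟨-, hB'⟩ := ok_spec K hB
  simp only [okM, Bool.and_eq_true, Nat.blt_eq, Nat.beq_eq, two72]
  refine ⟨mulM_lt A B, toMat_inj K (mulM_lt _ _) oneM_lt ?_⟩
  rw [toMat_mulM, toMat_adjM, toMat_mulM, adjT_mul, Matrix.mul_assoc,
    ← Matrix.mul_assoc (toMat K B), hB', Matrix.one_mul, hA', toMat_oneM]

theorem val_mulM {A B : ℕ} (hA : okM A = true) (hB : okM B = true) :
    val K (mulM A B) = val K A * val K B :=
  Units.ext (by rw [Units.val_mul, val_coe K (ok_mulM hA hB K), val_coe K hA, val_coe K hB,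
    toMat_mulM])

theorem val_oneM : val K oneM = 1 :=
  Units.ext (by rw [val_coe K ok_oneM, toMat_oneM]; rfl)

/-- The coded symmetric group of degree one hundred. -/
noncomputable def permOps : Bsgs.Ops (Equiv.Perm (Fin 100)) (Fin 100) :=
  Golay.PackPerm.ops 100 (by norm_num) (by decide +kernel)

/-- The permutation part of a code. -/
def pPart (c : ℕ) : ℕ := c >>> 72

/-- The matrix part of a code. -/
def mPart (c : ℕ) : ℕ := c % 4722366482869645213696

/-- A code from its parts. -/
def mkC (p m : ℕ) : ℕ := m + 4722366482869645213696 * p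

theorem mPart_mkC {p m : ℕ} (hm : m < 2 ^ 72) : mPart (mkC p m) = m := by
  rw [mPart, mkC, Nat.add_mul_mod_self_left, Nat.mod_eq_of_lt (by rwa [two72])]

theorem pPart_mkC {p m : ℕ} (hm : m < 2 ^ 72) : pPart (mkC p m) = p := by
  rw [pPart, mkC, Nat.shiftRight_eq_div_pow, ← two72, Nat.add_mul_div_left _ _ (by norm_num),
    Nat.div_eq_of_lt (by rwa [two72]), Nat.zero_add]

/-- The identity code. -/
def oneC : ℕ := mkC (Golay.PackPerm.pack (List.range 100)) oneM

/-- The product of codes. -/
def mulC (a b : ℕ) : ℕ :=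
  mkC (Golay.PackPerm.mulP 100 (pPart a) (pPart b)) (mulM (mPart a) (mPart b))

/-- Validity of a code. -/
def okC (c : ℕ) : Bool := Golay.PackPerm.okP 100 (pPart c) && okM (mPart c)

attribute [local irreducible] mkC pPart mPart mulM okM oneM Golay.PackPerm.okP Golay.PackPerm.mulP
  Golay.PackPerm.pack Golay.PackPerm.getP

/-- Pairs act through their permutation. -/
instance pairAct : MulAction (Equiv.Perm (Fin 100) × GL Ix F) (Fin 100) where
  smul g x := g.1 x
  one_smul _ := rfl
  mul_smul _ _ _ := rfl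

theorem pair_smul (g : Equiv.Perm (Fin 100) × GL Ix F) (x : Fin 100) : g • x = g.1 • x := rfl

theorem mulC_parts {a b : ℕ} :
    pPart (mulC a b) = Golay.PackPerm.mulP 100 (pPart a) (pPart b) ∧
      mPart (mulC a b) = mulM (mPart a) (mPart b) :=
  ⟨pPart_mkC (mulM_lt _ _), mPart_mkC (mulM_lt _ _)⟩

/-- The coded pairs. -/
noncomputable def ops : Bsgs.Ops (Equiv.Perm (Fin 100) × GL Ix F) (Fin 100) where
  val c := (permOps.val (pPart c), val K (mPart c))
  ok := okC
  one := oneC
  mul := mulC
  pt := permOps.pt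
  ptOk p := decide (p < 100)
  img c p := Golay.PackPerm.getP (pPart c) p
  ok_one := by decide +kernel
  val_one := by
    rw [oneC, pPart_mkC oneM_lt, mPart_mkC oneM_lt, val_oneM]
    exact Prod.ext permOps.val_one rfl
  ok_mul a b ha hb := by
    simp only [okC, Bool.and_eq_true] at ha hb ⊢
    rw [mulC_parts.1, mulC_parts.2]
    exact ⟨permOps.ok_mul _ _ ha.1 hb.1, ok_mulM ha.2 hb.2 K⟩
  val_mul a b ha hb := by
    simp only [okC, Bool.and_eq_true] at ha hb
    rw [mulC_parts.1, mulC_parts.2, val_mulM K ha.2 hb.2]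
    exact Prod.ext (permOps.val_mul _ _ ha.1 hb.1) rfl
  pt_img c p hc hp := by
    simp only [okC, Bool.and_eq_true] at hc
    exact permOps.pt_img _ p hc.1 hp
  pt_inj := permOps.pt_inj

/-- A field with four elements carries the field structure that is used. -/
theorem exists_omega {E : Type*} [Field E] [Fintype E] (hc : Fintype.card E = 4) : ∃ _ : Fld E, True := by
  classical
  obtain ⟨w, h0, h1⟩ : ∃ w : E, w ≠ 0 ∧ w ≠ 1 := by
    by_contra hcon
    push Not at hcon
    have : (Finset.univ : Finset E) ⊆ {0, 1} := fun x _ => by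
      by_cases hx : x = 0 <;> simp [hx, hcon x]
    have := Finset.card_le_card this
    rw [Finset.card_univ, hc] at this
    exact absurd (this.trans (Finset.card_insert_le _ _)) (by simp)
  have h3 : w ^ 3 = 1 := by
    have := FiniteField.pow_card_sub_one_eq_one w h0
    rwa [hc] at this
  have hw : w ^ 2 + w + 1 = 0 := by
    have : (w - 1) * (w ^ 2 + w + 1) = 0 := by linear_combination h3
    exact (mul_eq_zero.1 this).resolve_left (sub_ne_zero.2 h1)
  obtain ⟨K, -⟩ := J3.exists_fld hc w hw
  exact ⟨K, trivial⟩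

/-- An auxiliary field structure. -/
noncomputable def K₀ : Fld (GaloisField 2 2) := by
  classical
  haveI : Fintype (GaloisField 2 2) := Fintype.ofFinite _
  have hc : Fintype.card (GaloisField 2 2) = 4 := by
    rw [← Nat.card_eq_fintype_card, GaloisField.card 2 2 two_ne_zero]; norm_num
  exact (exists_omega hc).choose

variable {G : Type*} [Group G] {α : Type*} [MulAction G α]

theorem prodReps_congr {F' : Type*} [Field F'] (K' : Fld F') :
    ∀ (ls : List Golay.Bsgs.Lvl) (is : List ℕ),
      Golay.Bsgs.prodReps (ops K) ls is = Golay.Bsgs.prodReps (ops K') ls is := by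
  intro ls
  induction ls with
  | nil => intro is; rfl
  | cons l ls ih =>
    intro is
    cases is with
    | nil => rfl
    | cons i is => show mulC _ _ = mulC _ _; rw [ih is]; rfl

/-- The check does not depend on the field. -/
theorem check_congr {F' : Type*} [Field F'] (K' : Fld F') : ∀ (fixed : List ℕ)
    (ls : List Golay.Bsgs.Lvl),
    Golay.Bsgs.check (ops K) fixed ls = Golay.Bsgs.check (ops K') fixed ls := by
  intro fixed ls
  induction ls generalizing fixed with
  | nil => rfl
  | cons l ls ih =>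
    simp only [Golay.Bsgs.check, prodReps_congr K K', ih]
    rfl

end CfsgLib.G2FourJ2
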